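import Cfsg.Agent.FFLemma.Dual
import Cfsg.Agent.PGV.Replacement

/-!
# The count on operators

An abelian group `T` of maps `W → V`, closed under composition with some operators on `W`.
-/

set_option autoImplicit false
set_option linter.unusedSectionVars false

namespace Cfsg.Agent.FFLemma

variable {W V : Type*} [AddCommGroup W] [Finite W] [AddCommGroup V] [Finite V]

/-- Restriction to a subgroup. -/
def res (Z : AddSubgroup W) : (W →+ V) →+ (Z →+ V) where
  toFun f := f.comp Z.subtype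
  map_zero' := rfl
  map_add' _ _ := rfl

/-- The maps of `T` killing `Z`. -/
def kill (T : AddSubgroup (W →+ V)) (Z : AddSubgroup W) : AddSubgroup (W →+ V) := T ⊓ (res Z).ker

theorem mem_kill {T : AddSubgroup (W →+ V)} {Z : AddSubgroup W} {t : W →+ V} :
    t ∈ kill T Z ↔ t ∈ T ∧ ∀ z ∈ Z, t z = 0 := by
  refine and_congr Iff.rfl ?_
  simp [AddMonoidHom.mem_ker, res, DFunLike.ext_iff]

theorem kill_mul_le (T : AddSubgroup (W →+ V)) (Z₁ Z₂ : AddSubgroup W) :
    (Nat.card Z₁ * Nat.card (kill T Z₁)) * (Nat.card Z₂ * Nat.card (kill T Z₂)) ≤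
      (Nat.card (Z₁ ⊔ Z₂ : AddSubgroup W) * Nat.card (kill T (Z₁ ⊔ Z₂))) *
        (Nat.card (Z₁ ⊓ Z₂ : AddSubgroup W) * Nat.card (kill T (Z₁ ⊓ Z₂))) := by
  haveI : Finite (W →+ V) := Finite.of_injective _ DFunLike.coe_injective
  have h1 := PGV.addCard_sup_mul_inf Z₁ Z₂
  have h2 := PGV.addCard_sup_mul_inf (kill T Z₁) (kill T Z₂)
  have e1 : kill T Z₁ ⊓ kill T Z₂ = kill T (Z₁ ⊔ Z₂) := by
    ext t
    simp only [AddSubgroup.mem_inf, mem_kill]
    refine ⟨fun h => ⟨h.1.1, fun z hz => ?_⟩, fun h => ⟨⟨h.1, fun z hz => h.2 z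
      (AddSubgroup.mem_sup_left hz)⟩, h.1, fun z hz => h.2 z (AddSubgroup.mem_sup_right hz)⟩⟩
    obtain ⟨a, ha, b, hb, rfl⟩ := AddSubgroup.mem_sup.1 hz
    rw [map_add, h.1.2 a ha, h.2.2 b hb, add_zero]
  have e2 : kill T Z₁ ⊔ kill T Z₂ ≤ kill T (Z₁ ⊓ Z₂) := by
    refine sup_le ?_ ?_ <;> intro t ht <;> rw [mem_kill] at ht ⊢
    · exact ⟨ht.1, fun z hz => ht.2 z hz.1⟩
    · exact ⟨ht.1, fun z hz => ht.2 z hz.2⟩
  calc _ = (Nat.card Z₁ * Nat.card Z₂) * (Nat.card (kill T Z₁) * Nat.card (kill T Z₂)) := by ring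
    _ = _ * (Nat.card (kill T Z₁ ⊔ kill T Z₂ : AddSubgroup (W →+ V)) *
        Nat.card (kill T (Z₁ ⊔ Z₂))) := by rw [← h1, ← h2, e1]
    _ ≤ _ * (Nat.card (kill T (Z₁ ⊓ Z₂)) * Nat.card (kill T (Z₁ ⊔ Z₂))) :=
      Nat.mul_le_mul_left _ (Nat.mul_le_mul_right _ (AddSubgroup.card_le_of_le e2))
    _ = _ := by ring

set_option maxHeartbeats 800000 in
/-- The count. -/
theorem count_false (T : AddSubgroup (W →+ V)) (Ls : Set (AddMonoid.End W)) (q : ℕ)
    (hbij : ∀ L ∈ Ls, L = 0 ∨ Function.Injective L)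
    (hcomp : ∀ t ∈ T, ∀ L ∈ Ls, t.comp L ∈ T)
    (hq : ∀ N₁ N₂ : AddSubgroup W, (∀ L ∈ Ls, ∀ n ∈ N₁, L n ∈ N₁) →
      (∀ L ∈ Ls, ∀ n ∈ N₂, L n ∈ N₂) → N₁ < N₂ → Nat.card N₁ * q < Nat.card N₂)
    (hbound : ∀ Z : AddSubgroup W, Nat.card Z * Nat.card (kill T Z) ≤ q * Nat.card T)
    (hex : ∃ Z : AddSubgroup W, Nat.card T < Nat.card Z * Nat.card (kill T Z)) : False := by
  classical
  haveI : Finite (W →+ V) := Finite.of_injective _ DFunLike.coe_injective
  haveI : Finite (AddSubgroup W) := Finite.of_injective _ SetLike.coe_injective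
  obtain ⟨f, hf⟩ : ∃ f : AddSubgroup W → ℕ, ∀ Z, f Z = Nat.card Z * Nat.card (kill T Z) :=
    ⟨_, fun _ => rfl⟩
  have hpos : ∀ Z, 0 < f Z := fun Z => by rw [hf]; exact Nat.mul_pos Nat.card_pos Nat.card_pos
  obtain ⟨Y₀, hY₀⟩ := Finite.exists_max f
  obtain ⟨Y, hY, hYmax⟩ := (Set.toFinite {Z | f Z = f Y₀}).exists_maximalFor id _ ⟨Y₀, rfl⟩
  have hY' : f Y = f Y₀ := hY
  have hinv : ∀ L ∈ Ls, ∀ n ∈ Y, L n ∈ Y := by
    intro L hL n hn
    rcases hbij L hL with rfl | hinj
    · exact zero_mem Y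
    obtain ⟨LY, hLY⟩ : ∃ LY, LY = AddSubgroup.map (L : W →+ W) Y := ⟨_, rfl⟩
    have hLinj : Function.Injective (L : W →+ W) := hinj
    have c1 : Nat.card LY = Nat.card Y := by
      rw [hLY]; exact (Nat.card_congr (Y.equivMapOfInjective _ hLinj).toEquiv).symm
    have c2 : Nat.card (kill T Y) ≤ Nat.card (kill T LY) := by
      have hs : Function.Surjective
          (fun t : T => (⟨(t : W →+ V).comp L, hcomp t t.2 L hL⟩ : T)) := by
        refine Finite.surjective_of_injective fun s t h => Subtype.ext ?_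
        refine DFunLike.ext _ _ fun w => ?_
        obtain ⟨v, rfl⟩ := (Finite.surjective_of_injective hinj) w
        exact DFunLike.congr_fun (congrArg Subtype.val h) v
      have hm : ∀ t : kill T LY, (t : W →+ V).comp L ∈ kill T Y := fun t =>
        mem_kill.2 ⟨hcomp _ (mem_kill.1 t.2).1 L hL, fun z hz =>
          (mem_kill.1 t.2).2 _ (hLY ▸ AddSubgroup.mem_map_of_mem _ hz)⟩
      refine Nat.card_le_card_of_surjective
        (fun t : kill T LY => (⟨(t : W →+ V).comp L, hm t⟩ : kill T Y)) ?_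
      rintro ⟨u, hu⟩
      obtain ⟨huT, huY⟩ := mem_kill.1 hu
      obtain ⟨⟨t, ht⟩, htu⟩ := hs ⟨u, huT⟩
      have htu' : t.comp L = u := congrArg Subtype.val htu
      refine ⟨⟨t, mem_kill.2 ⟨ht, ?_⟩⟩, Subtype.ext htu'⟩
      rw [hLY]
      rintro _ ⟨z, hz, rfl⟩
      exact (DFunLike.congr_fun htu' z).trans (huY z hz)
    have hfl : f Y ≤ f LY := by rw [hf, hf, c1]; exact Nat.mul_le_mul_left _ c2
    have hsup : f (Y ⊔ LY) = f Y₀ := by
      refine le_antisymm (hY₀ _) ?_
      have h := kill_mul_le T Y LY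
      rw [← hf, ← hf, ← hf, ← hf] at h
      have h' : f Y₀ * f Y₀ ≤ f (Y ⊔ LY) * f Y₀ :=
        ((Nat.mul_le_mul hY'.ge (hY'.ge.trans hfl)).trans h).trans
          (Nat.mul_le_mul_left _ (hY₀ _))
      exact Nat.le_of_mul_le_mul_right h' (hpos _)
    exact hYmax hsup le_sup_left (AddSubgroup.mem_sup_right (hLY ▸ AddSubgroup.mem_map_of_mem _ hn))
  obtain ⟨Z, hZ⟩ := hex
  rw [← hf] at hZ
  have hbig : Nat.card T < f Y := hZ.trans_le (hY'.ge.trans' (hY₀ Z))
  -- the ring of operators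
  haveI : Finite (AddMonoid.End W) := Finite.of_injective _ DFunLike.coe_injective
  let B : Subring (AddMonoid.End W) := Subring.closure Ls
  have hBY : ∀ θ ∈ B, ∀ n ∈ Y, θ n ∈ Y := by
    intro θ hθ
    refine Subring.closure_induction hinv (fun n _ => zero_mem Y) (fun n hn => hn) ?_ ?_ ?_ hθ
    · exact fun a b _ _ ha hb n hn => add_mem (ha n hn) (hb n hn)
    · exact fun a _ ha n hn => neg_mem (ha n hn)
    · exact fun a b _ _ ha hb n hn => ha _ (hb n hn)
  have hBT : ∀ θ ∈ B, ∀ t ∈ T, t.comp θ ∈ T := by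
    intro θ hθ
    refine Subring.closure_induction (fun L hL t ht => hcomp t ht L hL) ?_ (fun t ht => ht) ?_ ?_
      ?_ hθ
    · intro t _
      convert zero_mem T
      exact DFunLike.ext _ _ fun w => t.map_zero
    · intro a b _ _ ha hb t ht
      convert add_mem (ha t ht) (hb t ht) using 1
      exact DFunLike.ext _ _ fun w => t.map_add _ _
    · intro a _ ha t ht
      convert neg_mem (ha t ht) using 1
      exact DFunLike.ext _ _ fun w => t.map_neg _
    · exact fun a b _ _ ha hb t ht => hb _ (ha t ht)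
  let M : Submodule B W :=
    { carrier := Y
      add_mem' := Y.add_mem
      zero_mem' := Y.zero_mem
      smul_mem' := fun θ _ hn => hBY θ θ.2 _ hn }
  let X : AddSubgroup (M →+ V) := T.map
    { toFun := fun t => t.comp M.subtype.toAddMonoidHom
      map_zero' := rfl
      map_add' := fun _ _ => rfl }
  have hcl : ∀ (θ : B) (φ : M →+ V), φ ∈ X → φ.comp (DistribSMul.toAddMonoidHom M θ) ∈ X := by
    rintro θ _ ⟨t, ht, rfl⟩
    exact ⟨t.comp θ.1, hBT θ θ.2 t ht, rfl⟩
  let π : B → X →+ X := fun θ =>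
    { toFun := fun φ => ⟨φ.1.comp (DistribSMul.toAddMonoidHom M θ), hcl θ φ φ.2⟩
      map_zero' := rfl
      map_add' := fun _ _ => rfl }
  haveI : Finite (M →+ V) := Finite.of_injective _ DFunLike.coe_injective
  have hYX : Nat.card M ≤ Nat.card X := by
    refine card_le_of_dual π (fun a b φ => Subtype.ext (DFunLike.ext _ _ fun m =>
        congrArg (φ : M →+ V) (mul_smul a b m)))
      (fun φ => Subtype.ext (DFunLike.ext _ _ fun m => congrArg (φ : M →+ V) (one_smul B m)))
      (fun a b φ => Subtype.ext (DFunLike.ext _ _ fun m =>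
        (congrArg (φ : M →+ V) (add_smul a b m)).trans (map_add (φ : M →+ V) _ _))) q ?_ ?_
    · intro N₁ N₂ hN
      have hmap : ∀ N : Submodule B M, ∀ L ∈ Ls, ∀ n ∈ N.toAddSubgroup.map M.subtype.toAddMonoidHom,
          L n ∈ N.toAddSubgroup.map M.subtype.toAddMonoidHom := by
        rintro N L hL _ ⟨m, hm, rfl⟩
        exact ⟨(⟨L, Subring.subset_closure hL⟩ : B) • m, N.smul_mem _ hm, rfl⟩
      have hcard : ∀ N : Submodule B M,
          Nat.card (N.toAddSubgroup.map M.subtype.toAddMonoidHom) = Nat.card N := fun N =>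
        (Nat.card_congr (N.toAddSubgroup.equivMapOfInjective _ Subtype.coe_injective).toEquiv).symm
      have := hq _ _ (hmap N₁) (hmap N₂) (AddSubgroup.map_lt_map_iff_of_injective
        Subtype.coe_injective |>.2 hN.lt)
      rwa [hcard, hcard] at this
    · intro ε hε
      obtain ⟨Z, hZe⟩ : ∃ Z, Z = (img ε (⊤ : Submodule B M)).map M.subtype.toAddMonoidHom :=
        ⟨_, rfl⟩
      have c1 : Nat.card Z = Nat.card (img ε (⊤ : Submodule B M)) := by
        rw [hZe]
        exact (Nat.card_congr ((img ε (⊤ : Submodule B M)).equivMapOfInjective _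
          Subtype.coe_injective).toEquiv).symm
      let ψ : T →+ (π ε).range :=
        { toFun := fun t => ⟨π ε ⟨_, t, t.2, rfl⟩, _, rfl⟩
          map_zero' := rfl
          map_add' := fun _ _ => rfl }
      have hψ : ψ.range = ⊤ := AddMonoidHom.range_eq_top.2 (by
        rintro ⟨_, ⟨_, t, ht, rfl⟩, rfl⟩
        exact ⟨⟨t, ht⟩, rfl⟩)
      have hk : Nat.card ψ.ker = Nat.card (kill T Z) := by
        have hiff : ∀ t : T, t ∈ ψ.ker ↔ (t : W →+ V) ∈ kill T Z := by
          intro t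
          rw [mem_kill, hZe]
          refine ⟨fun h => ⟨t.2, ?_⟩, fun h => ?_⟩
          · rintro _ ⟨_, ⟨m, -, rfl⟩, rfl⟩
            exact DFunLike.congr_fun (congrArg (fun φ : (π ε).range => (φ.1 : M →+ V)) h) m
          · refine Subtype.ext (Subtype.ext (DFunLike.ext _ _ fun m => ?_))
            exact h.2 _ ⟨_, ⟨m, trivial, rfl⟩, rfl⟩
        exact Nat.card_congr
          { toFun := fun t => ⟨t.1.1, (hiff t.1).1 t.2⟩
            invFun := fun t => ⟨⟨t.1, (mem_kill.1 t.2).1⟩, (hiff _).2 t.2⟩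
            left_inv := fun _ => rfl
            right_inv := fun _ => rfl }
      have hr := card_ker_mul_range ψ
      rw [hψ, AddSubgroup.card_top, hk] at hr
      have hb := hbound Z
      rw [← c1]
      refine Nat.le_of_mul_le_mul_right ?_ (Nat.card_pos (α := kill T Z))
      refine hb.trans (le_of_eq ?_)
      rw [← hr]
      ring
  have hX : Nat.card X * Nat.card (kill T Y) = Nat.card T := by
    rw [mul_comm]
    have e : T ⊓ AddMonoidHom.ker
        ({ toFun := fun t => t.comp M.subtype.toAddMonoidHom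
           map_zero' := rfl
           map_add' := fun _ _ => rfl } : (W →+ V) →+ (M →+ V)) = kill T Y := by
      ext t
      rw [mem_kill, AddSubgroup.mem_inf, AddMonoidHom.mem_ker]
      refine and_congr Iff.rfl ⟨fun h z hz => DFunLike.congr_fun h (⟨z, hz⟩ : M),
        fun h => DFunLike.ext _ _ fun m => h m.1 m.2⟩
    have h := card_map_mul
        ({ toFun := fun t => t.comp M.subtype.toAddMonoidHom
           map_zero' := rfl
           map_add' := fun _ _ => rfl } : (W →+ V) →+ (M →+ V)) T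
    rw [e] at h
    exact h
  have hM : Nat.card M = Nat.card Y := rfl
  rw [hf, ← hM] at hbig
  rw [← hX] at hbig
  exact absurd (Nat.mul_le_mul_right (Nat.card (kill T Y)) hYX) hbig.not_ge

end Cfsg.Agent.FFLemma
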