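import Cfsg.Agent.PGV.Replacement
import Cfsg.Agent.QdFree.Involve
import Cfsg.Agent.FFLemma.Count

/-!
# The critical configuration

A group `P` with a Sylow subgroup `T`, a quadratic offender `E ≤ T` all whose proper subgroups are
no offenders, and a piece `A` whose translates by `P` are not all fixed by `E`, such that `P` is
generated by `E` and any conjugate of `E` by an element moving `A`.
-/

set_option autoImplicit false
set_option linter.unusedSectionVars false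

namespace Cfsg.Agent.FFLemma

open Subgroup Cfsg.Agent.PGV

variable {Γ : Type*} [Group Γ] [Finite Γ] {V : Type*} [AddCommGroup V] [Finite V]
  [DistribMulAction Γ V]

/-- The elements mapping `A` into itself. -/
def stab (Γ : Type*) [Group Γ] [DistribMulAction Γ V] (A : AddSubgroup V) : Subgroup Γ where
  carrier := {g | ∀ a ∈ A, g • a ∈ A}
  one_mem' a ha := by rwa [one_smul]
  mul_mem' hg hh a ha := by rw [mul_smul]; exact hg _ (hh a ha)
  inv_mem' {g} hg a ha := by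
    obtain ⟨⟨b, hb⟩, hba⟩ := Finite.surjective_of_injective
      (f := fun a : A => (⟨g • (a : V), hg a a.2⟩ : A))
      (fun x y h => Subtype.ext (MulAction.injective g (congrArg Subtype.val h))) ⟨a, ha⟩
    have h1 : g • b = a := congrArg Subtype.val hba
    rw [← h1, inv_smul_smul]
    exact hb

theorem mem_stab {A : AddSubgroup V} {g : Γ} : g ∈ stab Γ A ↔ ∀ a ∈ A, g • a ∈ A := Iff.rfl

/-- The span of the translates of `A` by `P`. -/
def orb (P : Subgroup Γ) (A : AddSubgroup V) : AddSubgroup V :=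
  AddSubgroup.closure {v | ∃ p ∈ P, ∃ a ∈ A, v = p • a}

theorem smul_mem_orb {P : Subgroup Γ} {A : AddSubgroup V} {p : Γ} (hp : p ∈ P) {v : V}
    (hv : v ∈ orb P A) : p • v ∈ orb P A := by
  refine AddSubgroup.closure_induction (p := fun u _ => p • u ∈ orb P A) ?_ (by simp)
    (fun x y _ _ hx hy => by rw [smul_add]; exact add_mem hx hy)
    (fun x _ hx => by rw [smul_neg]; exact neg_mem hx) hv
  rintro u ⟨p', hp', a, ha, rfl⟩
  rw [← mul_smul]
  exact AddSubgroup.subset_closure ⟨p * p', mul_mem hp hp', a, ha, rfl⟩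

theorem mem_orb {P : Subgroup Γ} {A : AddSubgroup V} {a : V} (ha : a ∈ A) : a ∈ orb P A :=
  AddSubgroup.subset_closure ⟨1, one_mem P, a, ha, by rw [one_smul]⟩

/-- Two transvections with opposite axes generate a section `Sym(3)`. -/
theorem plane_false (s3 : ¬ Cfsg.Involves (Equiv.Perm (Fin 3)) Γ) (two : ∀ v : V, v + v = 0)
    (D : AddSubgroup V) (x b : Γ) (w y : V) (hxD : ∀ d ∈ D, x • d ∈ D) (hbD : ∀ d ∈ D, b • d ∈ D)
    (hxw : x • w - w ∈ D) (hxy : x • y - (y + w) ∈ D) (hbw : b • w - (w + y) ∈ D)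
    (hby : b • y - y ∈ D) (hw : w ∉ D) (hy : y ∉ D) (hwy : w + y ∉ D) : False := by
  classical
  have neg_eq : ∀ v : V, -v = v := fun v => neg_eq_of_add_eq_zero_left (two v)
  have sub_eq : ∀ u v : V, u - v = u + v := fun u v => by rw [sub_eq_add_neg, neg_eq]
  let f : Fin 3 → V := ![w, y, w + y]
  have hinj : ∀ i j, f i - f j ∈ D → i = j := by
    intro i j h
    fin_cases i <;> fin_cases j <;> simp [f, sub_eq] at h ⊢
    · exact hwy h
    · exact hy (by rwa [← add_assoc, two, zero_add] at h)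
    · exact hwy (by rwa [add_comm] at h)
    · exact hw (by rwa [add_comm y (w + y), add_assoc, two, add_zero] at h)
    · exact hy (by rwa [add_comm (w + y), ← add_assoc, two, zero_add] at h)
    · exact hw (by rwa [add_assoc, two, add_zero] at h)
  let M : Submonoid Γ :=
    { carrier := {h | (∀ d ∈ D, h • d ∈ D) ∧ ∀ i, ∃ j, h • f i - f j ∈ D}
      one_mem' := ⟨fun d hd => by rwa [one_smul], fun i => ⟨i, by simp⟩⟩
      mul_mem' := by
        rintro g h ⟨hg, hgf⟩ ⟨hh, hhf⟩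
        refine ⟨fun d hd => by rw [mul_smul]; exact hg _ (hh d hd), fun i => ?_⟩
        obtain ⟨j, hj⟩ := hhf i
        obtain ⟨k, hk⟩ := hgf j
        refine ⟨k, ?_⟩
        have := add_mem (hg _ hj) hk
        rwa [smul_sub, ← mul_smul, sub_add_sub_cancel] at this }
  let K : Subgroup Γ :=
    { M with
      inv_mem' := fun {h} hh => by
        have e : h⁻¹ = h ^ (orderOf h - 1) := by
          rw [inv_eq_iff_mul_eq_one, ← pow_succ', Nat.sub_add_cancel (orderOf_pos h),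
            pow_orderOf_eq_one]
        rw [e]
        exact M.pow_mem hh _ }
  have hK : ∀ h : K, ∀ i, ∃ j, (h : Γ) • f i - f j ∈ D := fun h => h.2.2
  choose σ hσ using hK
  have hmul : ∀ g h : K, ∀ i, σ (g * h) i = σ g (σ h i) := by
    intro g h i
    refine hinj _ _ ?_
    have h1 := hσ (g * h) i
    have h2 := g.2.1 _ (hσ h i)
    have h3 := hσ g (σ h i)
    rw [smul_sub, ← mul_smul] at h2
    have := sub_mem (add_mem h2 h3) h1
    rw [sub_add_sub_cancel, Subgroup.coe_mul, sub_sub_sub_cancel_left] at this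
    exact this
  have hone : ∀ i, σ 1 i = i := fun i => by
    refine hinj _ _ ?_
    have h1 := hσ 1 i
    rw [Subgroup.coe_one, one_smul] at h1
    simpa using neg_mem h1
  let φ : K →* Equiv.Perm (Fin 3) :=
    { toFun := fun h => ⟨σ h, σ h⁻¹, fun i => by rw [← hmul, inv_mul_cancel, hone],
        fun i => by rw [← hmul, mul_inv_cancel, hone]⟩
      map_one' := Equiv.ext hone
      map_mul' := fun g h => Equiv.ext fun i => hmul g h i }
  have hxK : x ∈ K := by
    refine ⟨hxD, fun i => ?_⟩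
    fin_cases i
    · exact ⟨0, hxw⟩
    · exact ⟨2, by simpa [f, add_comm w y] using hxy⟩
    · refine ⟨1, ?_⟩
      show x • (w + y) - y ∈ D
      have := add_mem hxw hxy
      rw [smul_add]
      convert this using 1
      rw [sub_eq, sub_eq, sub_eq]
      calc x • w + x • y + y = (x • w + x • y + y) + (w + w) := by rw [two, add_zero]
        _ = _ := by abel
  have hbK : b ∈ K := by
    refine ⟨hbD, fun i => ?_⟩
    fin_cases i
    · exact ⟨2, hbw⟩
    · exact ⟨1, hby⟩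
    · refine ⟨0, ?_⟩
      show b • (w + y) - w ∈ D
      have := add_mem hbw hby
      rw [smul_add]
      convert this using 1
      rw [sub_eq, sub_eq, sub_eq]
      calc b • w + b • y + w = (b • w + b • y + w) + (y + y) := by rw [two, add_zero]
        _ = _ := by abel
  have val : ∀ (h : K) (i j : Fin 3), (h : Γ) • f i - f j ∈ D → σ h i = j := fun h i j hj => by
    refine hinj _ _ ?_
    simpa using sub_mem hj (hσ h i)
  have ha : φ ⟨x, hxK⟩ = Equiv.swap 1 2 := by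
    refine Equiv.ext fun i => ?_
    show σ ⟨x, hxK⟩ i = _
    match i with
    | 0 => exact (val ⟨x, hxK⟩ 0 0 hxw).trans (by decide)
    | 1 => exact (val ⟨x, hxK⟩ 1 2 (by simpa [f, add_comm w y] using hxy)).trans (by decide)
    | 2 =>
      have : x • (w + y) - y ∈ D := by
        rw [smul_add, show x • w + x • y - y = (x • w - w) + (x • y - (y + w)) + (w + w) by abel,
          two, add_zero]
        exact add_mem hxw hxy
      exact (val ⟨x, hxK⟩ 2 1 this).trans (by decide)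
  have hb : φ ⟨b, hbK⟩ = Equiv.swap 0 2 := by
    refine Equiv.ext fun i => ?_
    show σ ⟨b, hbK⟩ i = _
    match i with
    | 0 => exact (val ⟨b, hbK⟩ 0 2 hbw).trans (by decide)
    | 1 => exact (val ⟨b, hbK⟩ 1 1 hby).trans (by decide)
    | 2 =>
      have : b • (w + y) - w ∈ D := by
        rw [smul_add, show b • w + b • y - w = (b • w - (w + y)) + (b • y - y) + (y + y) by abel,
          two, add_zero]
        exact add_mem hbw hby
      exact (val ⟨b, hbK⟩ 2 0 this).trans (by decide)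
  refine s3 (QdFree.involves_mk K φ fun τ => ?_)
  have key : ∀ τ : Equiv.Perm (Fin 3), τ = 1 ∨ τ = Equiv.swap 1 2 ∨ τ = Equiv.swap 0 2 ∨
      τ = Equiv.swap 1 2 * Equiv.swap 0 2 ∨ τ = Equiv.swap 0 2 * Equiv.swap 1 2 ∨
      τ = Equiv.swap 1 2 * Equiv.swap 0 2 * Equiv.swap 1 2 := by decide
  rcases key τ with rfl | rfl | rfl | rfl | rfl | rfl
  · exact ⟨1, map_one φ⟩
  · exact ⟨_, ha⟩
  · exact ⟨_, hb⟩
  · exact ⟨⟨x, hxK⟩ * ⟨b, hbK⟩, by rw [map_mul, ha, hb]⟩
  · exact ⟨⟨b, hbK⟩ * ⟨x, hxK⟩, by rw [map_mul, ha, hb]⟩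
  · exact ⟨⟨x, hxK⟩ * ⟨b, hbK⟩ * ⟨x, hxK⟩, by rw [map_mul, map_mul, ha, hb]⟩

/-- The configuration. -/
structure Conf (P T E : Subgroup Γ) (A : AddSubgroup V) : Prop where
  two : ∀ v : V, v + v = 0
  s3 : ¬ Cfsg.Involves (Equiv.Perm (Fin 3)) Γ
  off : Nat.card V ≤ Nat.card E * Nat.card (fix V E)
  small : ∀ B < E, Nat.card B * Nat.card (fix V B) ≤ Nat.card V
  quad : ∀ a ∈ E, ∀ b ∈ E, ∀ v : V, b • (a • v - v) = a • v - v
  ET : E ≤ T
  TP : T ≤ P
  twoT : IsPGroup 2 T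
  sylow : ∀ X ≤ P, IsPGroup 2 X → ∃ p ∈ P, ∀ x ∈ X, p * x * p⁻¹ ∈ T
  TA : T ≤ stab Γ A
  fixA : ∀ x ∈ E, ∀ a ∈ A, x • a = a
  moved : ∃ p ∈ P, ∃ x ∈ E, ∃ a ∈ A, x • p • a ≠ p • a
  gen : ∀ g ∈ P, g ∉ stab Γ A → ∀ H : Subgroup Γ, E ≤ H → (∀ x ∈ E, g * x * g⁻¹ ∈ H) → P ≤ H
  ind : ∀ X ≤ T, (∀ x ∈ X, ∀ y ∈ X, ∀ a ∈ A, x • y • a = y • x • a) →
    (∀ x ∈ X, ∀ a ∈ A, x • x • a = a) → (∃ x ∈ X, ∃ a ∈ A, x • a ≠ a) →
    (fixer Γ A).relIndex X * Nat.card (A ⊓ fix V X : AddSubgroup V) < Nat.card A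

namespace Conf

variable {P T E : Subgroup Γ} {A : AddSubgroup V} (c : Conf P T E A)
include c

theorem sub_eq (u v : V) : u - v = u + v := by
  rw [sub_eq_add_neg, neg_eq_of_add_eq_zero_left (c.two v)]

theorem EP : E ≤ P := c.ET.trans c.TP

omit c in
/-- The part fixed by `E`. -/
abbrev W (P E : Subgroup Γ) (A : AddSubgroup V) : AddSubgroup V := orb P A ⊓ fix V E

omit c in
/-- The part fixed by `P`. -/
abbrev F (P : Subgroup Γ) (A : AddSubgroup V) : AddSubgroup V := orb P A ⊓ fix V P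

omit c in
/-- The elements of `P` trivial modulo `F`. -/
def R (P : Subgroup Γ) (A : AddSubgroup V) : Subgroup Γ where
  carrier := {r | r ∈ P ∧ ∀ u ∈ orb P A, r • u - u ∈ F P A}
  one_mem' := ⟨one_mem P, fun u _ => by simp⟩
  mul_mem' := by
    rintro r s ⟨hr, hr'⟩ ⟨hs, hs'⟩
    refine ⟨mul_mem hr hs, fun u hu => ?_⟩
    have e : (r * s) • u - u = (r • (s • u) - s • u) + (s • u - u) := by
      rw [mul_smul, sub_add_sub_cancel]
    rw [e]
    exact add_mem (hr' _ (smul_mem_orb hs hu)) (hs' u hu)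
  inv_mem' := by
    rintro r ⟨hr, hr'⟩
    refine ⟨inv_mem hr, fun u hu => ?_⟩
    have h := hr' _ (smul_mem_orb (inv_mem hr) hu)
    rw [smul_inv_smul] at h
    simpa using neg_mem h

theorem orb_le : A ≤ orb P A := fun _ => mem_orb

theorem AW : A ≤ W P E A := fun a ha => ⟨mem_orb ha, fun x hx => c.fixA x hx a ha⟩

theorem FW : F P A ≤ W P E A := fun _ hv => ⟨hv.1, fix_anti c.EP hv.2⟩

theorem exists_notMem : ∃ g ∈ P, g ∉ stab Γ A := by
  obtain ⟨p, hp, x, hx, a, ha, hne⟩ := c.moved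
  exact ⟨p, hp, fun h => hne (c.fixA x hx _ (h a ha))⟩

/-- The displacements of `E` lie in `W`. -/
theorem disp_mem {x : Γ} (hx : x ∈ E) {u : V} (hu : u ∈ orb P A) : x • u - u ∈ W P E A :=
  ⟨(orb P A).sub_mem (smul_mem_orb (c.EP hx) hu) hu, fun y hy => c.quad x hx y hy u⟩

/-- A vector fixed by `E` and a conjugate outside `stab A` is fixed by `P`. -/
theorem fixed_of_two {g : Γ} (hg : g ∈ P) (hgM : g ∉ stab Γ A) {u : V} (hu : u ∈ fix V E)
    (hu' : ∀ x ∈ E, (g * x * g⁻¹) • u = u) : u ∈ fix V P :=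
  fun p hp => c.gen g hg hgM (MulAction.stabilizer Γ u) (fun x hx => hu x hx) hu' hp

theorem mem_F_of_two {g : Γ} (hg : g ∈ P) (hgM : g ∉ stab Γ A) {u : V} (hu : u ∈ W P E A)
    (hu' : g⁻¹ • u ∈ W P E A) : u ∈ F P A :=
  ⟨hu.1, c.fixed_of_two hg hgM hu.2 fun x hx => by
    rw [mul_smul, mul_smul, hu'.2 x hx, smul_inv_smul]⟩

theorem smul_F {p : Γ} (hp : p ∈ P) {u : V} (hu : u ∈ F P A) : p • u = u := hu.2 p hp

theorem decomp {g : Γ} (hg : g ∈ P) (hgM : g ∉ stab Γ A) {u : V} (hu : u ∈ orb P A) :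
    ∃ w ∈ W P E A, ∃ w' ∈ W P E A, u = w + g • w' := by
  let Z : AddSubgroup V := W P E A ⊔ (W P E A).map (DistribSMul.toAddMonoidHom V g)
  have hZ : ∀ p ∈ P, ∀ v ∈ Z, p • v ∈ Z := by
    have h1 : ∀ x ∈ E, ∀ v ∈ Z, x • v ∈ Z := by
      intro x hx v hv
      obtain ⟨w, hw, _, ⟨w', hw', rfl⟩, rfl⟩ := AddSubgroup.mem_sup.1 hv
      rw [smul_add, hw.2 x hx, DistribSMul.toAddMonoidHom_apply,
        ← sub_add_cancel (x • g • w') (g • w'), ← add_assoc]
      exact add_mem (AddSubgroup.mem_sup_left (add_mem hw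
        (c.disp_mem hx (smul_mem_orb hg hw'.1)))) (AddSubgroup.mem_sup_right ⟨w', hw', rfl⟩)
    have h2 : ∀ x ∈ E, ∀ v ∈ Z, (g * x * g⁻¹) • v ∈ Z := by
      intro x hx v hv
      obtain ⟨w, hw, _, ⟨w', hw', rfl⟩, rfl⟩ := AddSubgroup.mem_sup.1 hv
      rw [smul_add, DistribSMul.toAddMonoidHom_apply, mul_smul (g * x) g⁻¹ (g • w'),
        inv_smul_smul, mul_smul g x w', hw'.2 x hx, mul_smul, mul_smul,
        ← sub_add_cancel (x • g⁻¹ • w) (g⁻¹ • w), smul_add, smul_inv_smul]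
      exact add_mem (add_mem (AddSubgroup.mem_sup_right
        ⟨_, c.disp_mem hx (smul_mem_orb (inv_mem hg) hw.1), rfl⟩) (AddSubgroup.mem_sup_left hw))
        (AddSubgroup.mem_sup_right ⟨w', hw', rfl⟩)
    exact fun p hp => c.gen g hg hgM (stab Γ Z) h1 h2 hp
  have hUZ : orb P A ≤ Z := by
    rw [orb, AddSubgroup.closure_le]
    rintro v ⟨p, hp, a, ha, rfl⟩
    exact hZ p hp a (AddSubgroup.mem_sup_left (c.AW ha))
  obtain ⟨w, hw, _, ⟨w', hw', rfl⟩, rfl⟩ := AddSubgroup.mem_sup.1 (hUZ hu)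
  exact ⟨w, hw, w', hw', rfl⟩

/-- An element all whose conjugates stabilise `A` is trivial modulo `F`. -/
theorem mem_R_of_conj {x : Γ} (hx : x ∈ E) (h : ∀ p ∈ P, p⁻¹ * x * p ∈ stab Γ A) :
    x ∈ R P A := by
  refine ⟨c.EP hx, fun u hu => ?_⟩
  refine AddSubgroup.closure_induction (p := fun v _ => x • v - v ∈ F P A) ?_ (by simp)
    (fun v w _ _ hv hw => by rw [smul_add, add_sub_add_comm]; exact add_mem hv hw)
    (fun v _ hv => by rw [smul_neg, ← neg_sub']; exact neg_mem hv) hu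
  rintro v ⟨p, hp, a, ha, rfl⟩
  have hmem : (p⁻¹ * x * p) • a - a ∈ A := sub_mem (h p hp a ha) ha
  have e : x • p • a - p • a = p • ((p⁻¹ * x * p) • a - a) := by
    rw [smul_sub, ← mul_smul, ← mul_smul, mul_assoc, mul_inv_cancel_left]
  by_cases hpM : p ∈ stab Γ A
  · rw [c.fixA x hx _ (hpM a ha), sub_self]; exact zero_mem _
  · refine c.mem_F_of_two hp hpM (c.disp_mem hx (AddSubgroup.subset_closure ⟨p, hp, a, ha, rfl⟩)) ?_
    rw [e, inv_smul_smul]
    exact c.AW hmem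

/-- Outside `R` the elements of `E` are regular modulo `F`. -/
theorem regular {x : Γ} (hx : x ∈ E) (hxR : x ∉ R P A) {u : V} (hu : u ∈ orb P A)
    (h : x • u - u ∈ F P A) : u ∈ W P E A := by
  obtain ⟨g, hg, hy⟩ : ∃ g ∈ P, g⁻¹ * x * g ∉ stab Γ A := by
    by_contra hno
    push Not at hno
    exact hxR (c.mem_R_of_conj hx hno)
  obtain ⟨y, hy'⟩ : ∃ y, y = g⁻¹ * x * g := ⟨_, rfl⟩
  rw [← hy'] at hy
  have hyP : y ∈ P := by rw [hy']; exact mul_mem (mul_mem (inv_mem hg) (c.EP hx)) hg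
  have hgM : g ∉ stab Γ A := fun hgM =>
    hy (by rw [hy']; exact mul_mem (mul_mem (inv_mem hgM) (c.TA (c.ET hx))) hgM)
  obtain ⟨w, hw, w', hw', rfl⟩ := c.decomp hg hgM hu
  have e : x • (w + g • w') - (w + g • w') = g • (y • w' - w') := by
    rw [smul_add, hw.2 x hx, add_sub_add_left_eq_sub, smul_sub, hy', ← mul_smul, ← mul_smul,
      mul_assoc, mul_inv_cancel_left]
  rw [e] at h
  have hF : y • w' - w' ∈ F P A := by
    have := c.smul_F (inv_mem hg) h
    rw [inv_smul_smul] at this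
    rw [this]; exact h
  have h2 : y • w' ∈ W P E A := by
    rw [← sub_add_cancel (y • w') w']; exact add_mem (c.FW hF) hw'
  have h3 : y • w' ∈ F P A := c.mem_F_of_two hyP hy h2 (by rwa [inv_smul_smul])
  have h4 : w' ∈ F P A := by simpa using sub_mem h3 hF
  rw [c.smul_F hg h4]
  exact add_mem hw (c.FW h4)

theorem R_comm {r s : Γ} (hr : r ∈ R P A) (hs : s ∈ R P A) {u : V} (hu : u ∈ orb P A) :
    r • s • u = s • r • u := by
  have h1 := c.smul_F hr.1 (hs.2 u hu)
  have h2 := c.smul_F hs.1 (hr.2 u hu)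
  rw [smul_sub, sub_eq_iff_eq_add] at h1 h2
  rw [h1, h2]
  abel

theorem R_sq {r : Γ} (hr : r ∈ R P A) {u : V} (hu : u ∈ orb P A) : r • r • u = u := by
  have h1 := c.smul_F hr.1 (hr.2 u hu)
  rw [smul_sub, sub_eq_iff_eq_add] at h1
  rw [h1, sub_add_eq_add_sub, c.two, zero_sub, neg_eq_of_add_eq_zero_left (c.two u)]

theorem R_pow {r : Γ} (hr : r ∈ R P A) {u : V} (hu : u ∈ orb P A) (k : ℕ) :
    r ^ (2 * k + 1) • u = r • u := by
  induction k with
  | zero => simp
  | succ k ih =>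
    rw [show 2 * (k + 1) + 1 = (2 * k + 1) + 1 + 1 by ring, pow_succ', pow_succ', mul_smul,
      mul_smul, ih]
    rw [c.R_sq hr (smul_mem_orb hr.1 hu)]

theorem conj_R {p r : Γ} (hp : p ∈ P) (hr : r ∈ R P A) : p * r * p⁻¹ ∈ R P A := by
  refine ⟨mul_mem (mul_mem hp hr.1) (inv_mem hp), fun u hu => ?_⟩
  have h := hr.2 _ (smul_mem_orb (inv_mem hp) hu)
  have h' := c.smul_F hp h
  have e : (p * r * p⁻¹) • u - u = p • (r • p⁻¹ • u - p⁻¹ • u) := by
    rw [smul_sub, smul_inv_smul, mul_smul, mul_smul]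
  rw [e, h']
  exact h

/-- On the module every element of `R` acts as one in `T`. -/
theorem exists_T {r : Γ} (hr : r ∈ R P A) :
    ∃ t ∈ T, t ∈ R P A ∧ ∀ u ∈ orb P A, r • u = t • u := by
  obtain ⟨k, m, hm, hn⟩ := Nat.exists_eq_pow_mul_and_not_dvd (orderOf_pos r).ne' 2 (by norm_num)
  obtain ⟨j, rfl⟩ : ∃ j, m = 2 * j + 1 := ⟨m / 2, by omega⟩
  obtain ⟨s, hs⟩ : ∃ s, s = r ^ (2 * j + 1) := ⟨_, rfl⟩
  have hsR : s ∈ R P A := hs ▸ pow_mem hr _
  have hsu : ∀ u ∈ orb P A, s • u = r • u := fun u hu => hs ▸ c.R_pow hr hu j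
  have hs2 : s ^ 2 ^ k = 1 := by rw [hs, ← pow_mul, mul_comm, ← hn, pow_orderOf_eq_one]
  have hX : IsPGroup 2 (zpowers s) := by
    rintro ⟨y, hy⟩
    obtain ⟨z, rfl⟩ := mem_zpowers_iff.1 hy
    refine ⟨k, Subtype.ext ?_⟩
    show (s ^ z) ^ 2 ^ k = 1
    rw [← zpow_natCast, ← zpow_mul, mul_comm, zpow_mul, zpow_natCast, hs2, one_zpow]
  haveI : Fact (Nat.Prime 2) := ⟨Nat.prime_two⟩
  -- `R ⊓ T` is a maximal `2`-subgroup of `R`
  have hXR : IsPGroup 2 ((R P A ⊓ T).subgroupOf (R P A)) :=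
    IsPGroup.comap_subtype (c.twoT.to_le inf_le_right)
  obtain ⟨Q, hQ⟩ := hXR.exists_le_sylow
  obtain ⟨p, hp, hpT⟩ := c.sylow ((Q : Subgroup (R P A)).map (R P A).subtype)
    (map_subtype_le _ |>.trans fun x hx => hx.1) (Q.2.map _)
  have hQeq : (Q : Subgroup (R P A)) = (R P A ⊓ T).subgroupOf (R P A) := by
    refine (Subgroup.eq_of_le_of_card_ge hQ ?_).symm
    refine Nat.card_le_card_of_injective
      (fun q : (Q : Subgroup (R P A)) => (⟨⟨p * ((q : R P A) : Γ) * p⁻¹, c.conj_R hp (q : R P A).2⟩,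
        c.conj_R hp (q : R P A).2, hpT _ ⟨q, q.2, rfl⟩⟩ : (R P A ⊓ T).subgroupOf (R P A))) ?_
    intro x y h
    have h' : p * ((x : R P A) : Γ) * p⁻¹ = p * ((y : R P A) : Γ) * p⁻¹ :=
      congrArg (fun q : (R P A ⊓ T).subgroupOf (R P A) => ((q : R P A) : Γ)) h
    exact Subtype.ext (Subtype.ext (mul_left_cancel (mul_right_cancel h')))
  have hX' : IsPGroup 2 ((zpowers s).subgroupOf (R P A)) := IsPGroup.comap_subtype hX
  obtain ⟨Q', hQ'⟩ := hX'.exists_le_sylow
  obtain ⟨d, hd⟩ := MulAction.exists_smul_eq (R P A) Q' Q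
  have hsQ : (⟨s, hsR⟩ : R P A) ∈ (Q' : Subgroup (R P A)) := hQ' (mem_zpowers s)
  have hm : d * ⟨s, hsR⟩ * d⁻¹ ∈ (Q : Subgroup (R P A)) := by
    rw [← hd, Sylow.coe_subgroup_smul]
    exact ⟨⟨s, hsR⟩, hsQ, rfl⟩
  rw [hQeq] at hm
  have hm' : (d : Γ) * s * (d : Γ)⁻¹ ∈ R P A ⊓ T := hm
  refine ⟨_, hm'.2, hm'.1, fun u hu => ?_⟩
  have h1 := c.R_comm d.2 hsR (smul_mem_orb (inv_mem d.2.1) hu)
  rw [smul_inv_smul] at h1
  rw [mul_smul, mul_smul, h1, hsu u hu]

omit c in
/-- `W` modulo `F`. -/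
abbrev Wb (P E : Subgroup Γ) (A : AddSubgroup V) :=
  ↥(W P E A) ⧸ (F P A).addSubgroupOf (W P E A)

omit c in
/-- The displacement map of an element of `R`. -/
def tau (P E : Subgroup Γ) (A : AddSubgroup V) (r : R P A) : Wb P E A →+ V :=
  QuotientAddGroup.lift _
    ((DistribSMul.toAddMonoidHom V (r : Γ) - AddMonoidHom.id V).comp (W P E A).subtype)
    (fun w hw => sub_eq_zero.2 (hw.2 _ r.2.1))

omit c in
theorem tau_mk (r : R P A) (w : W P E A) :
    tau P E A r (QuotientAddGroup.mk w) = (r : Γ) • (w : V) - w := rfl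

omit c in
theorem tau_mul (r s : R P A) : tau P E A (r * s) = tau P E A r + tau P E A s := by
  refine DFunLike.ext _ _ fun z => ?_
  obtain ⟨w, rfl⟩ := QuotientAddGroup.mk_surjective z
  rw [AddMonoidHom.add_apply, tau_mk, tau_mk, tau_mk, Subgroup.coe_mul, mul_smul]
  have h := (s.2.2 w w.2.1).2 r r.2.1
  rw [smul_sub, _root_.sub_eq_iff_eq_add] at h
  rw [h]
  abel

omit c in
/-- All displacement maps. -/
def TT (P E : Subgroup Γ) (A : AddSubgroup V) : AddSubgroup (Wb P E A →+ V) where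
  carrier := {t | ∃ r : R P A, tau P E A r = t}
  zero_mem' := ⟨1, DFunLike.ext _ _ fun z => by
    obtain ⟨w, rfl⟩ := QuotientAddGroup.mk_surjective z
    rw [tau_mk, Subgroup.coe_one, one_smul, sub_self, AddMonoidHom.zero_apply]⟩
  add_mem' := by rintro _ _ ⟨r, rfl⟩ ⟨s, rfl⟩; exact ⟨r * s, tau_mul r s⟩
  neg_mem' := by
    rintro _ ⟨r, rfl⟩
    refine ⟨r⁻¹, eq_neg_of_add_eq_zero_left ?_⟩
    rw [← tau_mul, inv_mul_cancel]
    refine DFunLike.ext _ _ fun z => ?_
    obtain ⟨w, rfl⟩ := QuotientAddGroup.mk_surjective z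
    rw [tau_mk, Subgroup.coe_one, one_smul, sub_self, AddMonoidHom.zero_apply]

omit c in
/-- Composition of the displacement maps with a restriction, on a subgroup. -/
def resTau (P E : Subgroup Γ) (A : AddSubgroup V) (Z : AddSubgroup (Wb P E A)) :
    R P A →* Multiplicative (Z →+ V) where
  toFun r := Multiplicative.ofAdd (res Z (tau P E A r))
  map_one' := by
    rw [← ofAdd_zero]
    congr 1
    refine DFunLike.ext _ _ fun z => ?_
    obtain ⟨w, hw⟩ := QuotientAddGroup.mk_surjective (z : Wb P E A)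
    show tau P E A 1 (z : Wb P E A) = 0
    rw [← hw, tau_mk, Subgroup.coe_one, one_smul, sub_self]
  map_mul' r s := by
    rw [← ofAdd_add, ← map_add, tau_mul]

omit c in
theorem resTau_eq_one {Z : AddSubgroup (Wb P E A)} {r : R P A} :
    resTau P E A Z r = 1 ↔ ∀ w : W P E A, QuotientAddGroup.mk w ∈ Z → (r : Γ) • (w : V) = w := by
  rw [resTau, MonoidHom.coe_mk, OneHom.coe_mk, ← ofAdd_zero, Multiplicative.ofAdd.apply_eq_iff_eq,
    DFunLike.ext_iff]
  refine ⟨fun h w hw => sub_eq_zero.1 (h ⟨_, hw⟩), fun h z => ?_⟩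
  obtain ⟨w, hw⟩ := QuotientAddGroup.mk_surjective (z : Wb P E A)
  show tau P E A r (z : Wb P E A) = 0
  rw [← hw, tau_mk, sub_eq_zero]
  exact h w (hw ▸ z.2)

/-- Composing a displacement by `R` with one by `P`. -/
theorem R_shift {p r : Γ} (hp : p ∈ P) (hr : r ∈ R P A) :
    ∃ r' ∈ R P A, ∀ u ∈ orb P A, r' • u - u = r • (p • u - u) - (p • u - u) := by
  have h := c.conj_R (inv_mem hp) hr
  refine ⟨_, mul_mem h hr, fun u hu => ?_⟩
  have h1 := c.smul_F h.1 (hr.2 u hu)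
  have h2 := c.smul_F (inv_mem hp) (hr.2 _ (smul_mem_orb hp hu))
  rw [smul_sub, inv_smul_smul] at h2
  have h3 : (p⁻¹ * r * p⁻¹⁻¹) • u - u = r • p • u - p • u := by
    rw [← h2, inv_inv, mul_smul, mul_smul]
  rw [smul_sub] at h1
  rw [mul_smul, ← sub_add_cancel ((p⁻¹ * r * p⁻¹⁻¹) • r • u) ((p⁻¹ * r * p⁻¹⁻¹) • u), h1,
    add_sub_assoc, h3, smul_sub, c.sub_eq (r • u) u, c.sub_eq (r • p • u) (p • u),
    c.sub_eq (r • p • u) (r • u), c.sub_eq (p • u) u, c.sub_eq]
  abel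

theorem exists_notR : ∃ x ∈ E, x ∉ R P A := by
  by_contra hno
  push Not at hno
  obtain ⟨g, hg, hgM⟩ := c.exists_notMem
  obtain ⟨t, ht, -, hu⟩ := c.exists_T
    (c.gen g hg hgM (R P A) hno (fun x hx => c.conj_R hg (hno x hx)) hg)
  exact hgM fun a ha => by rw [hu a (mem_orb ha)]; exact c.TA ht a ha

theorem smul_eq_of_conj {g : Γ} {x : Γ} (hx : x ∈ E) {u : V} (hu : g⁻¹ • u ∈ W P E A) :
    (g * x * g⁻¹) • u = u := by
  rw [mul_smul, mul_smul, hu.2 x hx, smul_inv_smul]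

/-- The preimage in `V` of a subgroup of `W` modulo `F`. -/
def lifted (_c : Conf P T E A) (Z : AddSubgroup (Wb P E A)) : AddSubgroup V :=
  (Z.comap (QuotientAddGroup.mk' _)).map (W P E A).subtype

theorem mem_lifted {Z : AddSubgroup (Wb P E A)} {v : V} :
    v ∈ c.lifted Z ↔ ∃ h : v ∈ W P E A, QuotientAddGroup.mk (⟨v, h⟩ : W P E A) ∈ Z :=
  ⟨by rintro ⟨w, hw, rfl⟩; exact ⟨w.2, hw⟩, fun ⟨h, hz⟩ => ⟨⟨v, h⟩, hz, rfl⟩⟩

theorem F_le_lifted (Z : AddSubgroup (Wb P E A)) : F P A ≤ c.lifted Z := fun v hv => by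
  refine c.mem_lifted.2 ⟨c.FW hv, ?_⟩
  rw [(QuotientAddGroup.eq_zero_iff _).2 (show (⟨v, c.FW hv⟩ : W P E A) ∈
    (F P A).addSubgroupOf (W P E A) from hv)]
  exact zero_mem Z

theorem card_lifted (Z : AddSubgroup (Wb P E A)) :
    Nat.card (c.lifted Z) = Nat.card Z * Nat.card (F P A) := by
  rw [lifted, ← Nat.card_congr (AddSubgroup.equivMapOfInjective _ _
    (AddSubgroup.subtype_injective _)).toEquiv]
  have h := card_map_mul (QuotientAddGroup.mk' ((F P A).addSubgroupOf (W P E A)))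
    (Z.comap (QuotientAddGroup.mk' _))
  rw [AddSubgroup.map_comap_eq_self_of_surjective (QuotientAddGroup.mk'_surjective _),
    QuotientAddGroup.ker_mk', inf_eq_right.2 (fun x hx => by
      show QuotientAddGroup.mk x ∈ Z
      rw [(QuotientAddGroup.eq_zero_iff _).2 hx]; exact zero_mem Z),
    Nat.card_congr (AddSubgroup.addSubgroupOfEquivOfLe c.FW).toEquiv] at h
  rw [← h, mul_comm]

/-- There is no such configuration. -/
theorem false : False := by
  classical
  obtain ⟨g, hg, hgM⟩ := c.exists_notMem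
  obtain ⟨x₁, hx₁, hx₁R⟩ := c.exists_notR
  obtain ⟨b, hb⟩ : ∃ b, b = g * x₁ * g⁻¹ := ⟨_, rfl⟩
  have hbP : b ∈ P := hb ▸ mul_mem (mul_mem hg (c.EP hx₁)) (inv_mem hg)
  have hgW : ∀ u ∈ orb P A, g⁻¹ • (b • u - u) = x₁ • g⁻¹ • u - g⁻¹ • u := fun u _ => by
    rw [smul_sub, hb, mul_smul, mul_smul, inv_smul_smul]
  have hbimg : ∀ u ∈ orb P A, g⁻¹ • (b • u - u) ∈ W P E A := fun u hu => by
    rw [hgW u hu]; exact c.disp_mem hx₁ (smul_mem_orb (inv_mem hg) hu)
  have hbreg : ∀ w ∈ W P E A, b • w - w ∈ F P A → w ∈ F P A := fun w hw h => by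
    refine c.mem_F_of_two hg hgM hw (c.regular hx₁ hx₁R (smul_mem_orb (inv_mem hg) hw.1) ?_)
    rw [← hgW w hw.1, c.smul_F (inv_mem hg) h]
    exact h
  -- the operators
  let Lraw : E → W P E A →+ W P E A := fun x =>
    { toFun := fun w => ⟨(x : Γ) • (b • (w : V) - w) - (b • (w : V) - w),
        c.disp_mem x.2 ((orb P A).sub_mem (smul_mem_orb hbP w.2.1) w.2.1)⟩
      map_zero' := Subtype.ext (by simp)
      map_add' := fun v w => Subtype.ext (by
        simp only [AddSubgroup.coe_add, smul_add, smul_sub]; abel) }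
  let L : E → AddMonoid.End (Wb P E A) := fun x => QuotientAddGroup.map _ _ (Lraw x) (by
    intro w hw
    have hw' : (w : V) ∈ F P A := hw
    show (x : Γ) • (b • (w : V) - w) - (b • (w : V) - w) ∈ F P A
    rw [c.smul_F hbP hw', sub_self, smul_zero, sub_zero]
    exact zero_mem _)
  have hLmk : ∀ (x : E) (w : W P E A), L x (QuotientAddGroup.mk w) =
      QuotientAddGroup.mk (Lraw x w) := fun _ _ => rfl
  have hzero : ∀ x : E, (x : Γ) ∈ R P A → L x = 0 := by
    intro x hx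
    refine DFunLike.ext _ _ fun z => ?_
    obtain ⟨w, rfl⟩ := QuotientAddGroup.mk_surjective z
    rw [hLmk]
    exact (QuotientAddGroup.eq_zero_iff _).2
      (hx.2 _ ((orb P A).sub_mem (smul_mem_orb hbP w.2.1) w.2.1))
  have hinj : ∀ x : E, (x : Γ) ∉ R P A → Function.Injective (L x) := by
    intro x hx
    refine (injective_iff_map_eq_zero _).2 fun z hz => ?_
    obtain ⟨w, rfl⟩ := QuotientAddGroup.mk_surjective z
    rw [hLmk] at hz
    have hF : (x : Γ) • (b • (w : V) - w) - (b • (w : V) - w) ∈ F P A :=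
      (QuotientAddGroup.eq_zero_iff (Lraw x w)).1 hz
    have h1 := c.regular x.2 hx ((orb P A).sub_mem (smul_mem_orb hbP w.2.1) w.2.1) hF
    have h2 := c.mem_F_of_two hg hgM h1 (hbimg _ w.2.1)
    exact (QuotientAddGroup.eq_zero_iff _).2 (hbreg _ w.2 h2)
  have hadd : ∀ x y : E, L (x * y) = L x + L y := by
    intro x y
    refine DFunLike.ext _ _ fun z => ?_
    obtain ⟨w, rfl⟩ := QuotientAddGroup.mk_surjective z
    rw [hLmk]
    show _ = QuotientAddGroup.mk (Lraw x w) + QuotientAddGroup.mk (Lraw y w)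
    rw [← QuotientAddGroup.mk_add]
    congr 1
    refine Subtype.ext ?_
    generalize hv : b • (w : V) - w = v
    show ((x : Γ) * y) • (b • (w : V) - w) - (b • (w : V) - w) =
      ((x : Γ) • (b • (w : V) - w) - (b • (w : V) - w)) +
        ((y : Γ) • (b • (w : V) - w) - (b • (w : V) - w))
    rw [hv, mul_smul]
    have h := c.quad y y.2 x x.2 v
    rw [smul_sub, _root_.sub_eq_iff_eq_add] at h
    rw [h]
    abel
  refine count_false (TT P E A) (Set.range L) ((R P A).relIndex E) ?_ ?_ ?_ ?_ ?_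
  · rintro _ ⟨x, rfl⟩
    by_cases hx : (x : Γ) ∈ R P A
    · exact Or.inl (hzero x hx)
    · exact Or.inr (hinj x hx)
  · rintro _ ⟨r, rfl⟩ _ ⟨x, rfl⟩
    obtain ⟨r₁, hr₁, e₁⟩ := c.R_shift (c.EP x.2) r.2
    obtain ⟨r₂, hr₂, e₂⟩ := c.R_shift hbP hr₁
    refine ⟨⟨r₂, hr₂⟩, DFunLike.ext _ _ fun z => ?_⟩
    obtain ⟨w, rfl⟩ := QuotientAddGroup.mk_surjective z
    rw [tau_mk]
    show _ = tau P E A r (L x (QuotientAddGroup.mk w))
    rw [hLmk, tau_mk, e₂ _ w.2.1, e₁ _ ((orb P A).sub_mem (smul_mem_orb hbP w.2.1) w.2.1)]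
    rfl
  · intro N₁ N₂ hN₁ hN₂ hlt
    obtain ⟨n, hn, hnN⟩ := SetLike.exists_of_lt hlt
    let φ : E →* Multiplicative (Wb P E A ⧸ N₁) :=
      { toFun := fun x => Multiplicative.ofAdd (QuotientAddGroup.mk (L x n))
        map_one' := by
          rw [hzero 1 (one_mem _)]
          rfl
        map_mul' := fun x y => by
          rw [hadd, ← ofAdd_add]
          rfl }
    have hker : φ.ker = (R P A).subgroupOf E := by
      ext x
      rw [MonoidHom.mem_ker, Subgroup.mem_subgroupOf]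
      refine ⟨fun h => ?_, fun h => ?_⟩
      · by_contra hx
        have h' : L x n ∈ N₁ := (QuotientAddGroup.eq_zero_iff _).1 h
        obtain ⟨⟨m, hm⟩, hmn⟩ := Finite.surjective_of_injective
          (f := fun m : N₁ => (⟨L x m, hN₁ _ ⟨x, rfl⟩ m m.2⟩ : N₁))
          (fun a a' e => Subtype.ext (hinj x hx (congrArg Subtype.val e))) ⟨_, h'⟩
        exact hnN (hinj x hx (congrArg Subtype.val hmn) ▸ hm)
      · show Multiplicative.ofAdd (QuotientAddGroup.mk (L x n) : Wb P E A ⧸ N₁) = 1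
        rw [hzero x h]
        rfl
    have hrange : Nat.card φ.range = (R P A).relIndex E := by
      rw [← Subgroup.index_ker, hker]; rfl
    have h1 := card_map_mul (QuotientAddGroup.mk' N₁) N₂
    rw [QuotientAddGroup.ker_mk', inf_eq_right.2 hlt.le] at h1
    rw [← hrange, ← h1]
    refine Nat.mul_lt_mul_of_pos_left ?_ Nat.card_pos
    let S₂ : Set (Wb P E A ⧸ N₁) := N₂.map (QuotientAddGroup.mk' N₁)
    have hsub : Multiplicative.toAdd '' (φ.range : Set _) ⊂ S₂ := by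
      refine Set.ssubset_iff_exists.2 ⟨?_, QuotientAddGroup.mk n, ⟨n, hn, rfl⟩, ?_⟩
      · rintro _ ⟨_, ⟨x, rfl⟩, rfl⟩
        exact ⟨L x n, hN₂ _ ⟨x, rfl⟩ n hn, rfl⟩
      rintro ⟨_, ⟨x, rfl⟩, hx⟩
      have hxn : L x n - n ∈ N₁ := (QuotientAddGroup.eq_iff_sub_mem).1 hx
      obtain ⟨w, rfl⟩ := QuotientAddGroup.mk_surjective n
      rw [hLmk, ← QuotientAddGroup.mk_sub] at hxn
      -- the plane
      obtain ⟨δ, hδ⟩ : ∃ δ : V →+ V, ∀ v, δ v = b • v - v :=
        ⟨DistribSMul.toAddMonoidHom V b - AddMonoidHom.id V, fun _ => rfl⟩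
      have hN : ∀ v ∈ c.lifted N₁, v ∈ W P E A := fun v hv => (c.mem_lifted.1 hv).1
      have hFix : ∀ v ∈ W P E A, δ v ∈ W P E A → v ∈ F P A := fun v hv h => by
        rw [hδ] at h
        exact hbreg v hv (c.mem_F_of_two hg hgM h (hbimg v hv.1))
      have hx1 : ∀ v ∈ c.lifted N₁, (x : Γ) • (δ v) - δ v ∈ c.lifted N₁ := fun v hv => by
        obtain ⟨hvW, hvN⟩ := c.mem_lifted.1 hv
        rw [hδ]
        exact ⟨Lraw x ⟨v, hvW⟩, hN₁ _ ⟨x, rfl⟩ _ hvN, rfl⟩
      have hbδ : ∀ v ∈ orb P A, b • δ v = δ v := fun v hv => by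
        rw [hδ]
        exact hb.symm ▸ c.smul_eq_of_conj hx₁ (hb ▸ hbimg v hv)
      have hout : ∀ v ∈ W P E A, v ∉ c.lifted N₁ →
          v ∉ c.lifted N₁ ⊔ (c.lifted N₁).map δ := by
        intro v hv hvN h
        obtain ⟨n₁, hn₁, _, ⟨n₂, hn₂, rfl⟩, rfl⟩ := AddSubgroup.mem_sup.1 h
        have h2 : δ n₂ ∈ W P E A := by
          simpa using (W P E A).sub_mem hv (hN _ hn₁)
        exact hvN (add_mem hn₁ (c.F_le_lifted _ (by
          rw [hδ] at h2 ⊢
          exact c.mem_F_of_two hg hgM h2 (hbimg _ (hN _ hn₂).1))))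
      have hwN : (w : V) ∉ c.lifted N₁ := fun h => hnN (c.mem_lifted.1 h).2
      refine plane_false c.s3 c.two (c.lifted N₁ ⊔ (c.lifted N₁).map δ) x b w (δ w) ?_ ?_ ?_ ?_ ?_
        ?_ (hout _ w.2 hwN) ?_ ?_
      · intro d hd
        obtain ⟨n₁, hn₁, _, ⟨n₂, hn₂, rfl⟩, rfl⟩ := AddSubgroup.mem_sup.1 hd
        rw [smul_add, (hN _ hn₁).2 x x.2, ← sub_add_cancel ((x : Γ) • δ n₂) (δ n₂), ← add_assoc]
        exact add_mem (AddSubgroup.mem_sup_left (add_mem hn₁ (hx1 _ hn₂)))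
          (AddSubgroup.mem_sup_right (AddSubgroup.mem_map_of_mem _ hn₂))
      · intro d hd
        obtain ⟨n₁, hn₁, _, ⟨n₂, hn₂, rfl⟩, rfl⟩ := AddSubgroup.mem_sup.1 hd
        rw [smul_add, hbδ _ (hN _ hn₂).1, ← sub_add_cancel (b • n₁) n₁, ← hδ]
        exact add_mem (add_mem (AddSubgroup.mem_sup_right (AddSubgroup.mem_map_of_mem _ hn₁))
          (AddSubgroup.mem_sup_left hn₁)) (AddSubgroup.mem_sup_right
            (AddSubgroup.mem_map_of_mem _ hn₂))
      · rw [w.2.2 x x.2, sub_self]; exact zero_mem _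
      · refine AddSubgroup.mem_sup_left (c.mem_lifted.2 ⟨?_, ?_⟩)
        · rw [← sub_sub, hδ]
          exact (W P E A).sub_mem (Lraw x w).2 w.2
        · convert hxn using 2
          refine Subtype.ext ?_
          show (x : Γ) • δ (w : V) - (δ (w : V) + w) =
            ((x : Γ) • (b • (w : V) - w) - (b • (w : V) - w)) - w
          simp only [hδ, sub_sub]
      · rw [hδ, add_sub_cancel, sub_self]; exact zero_mem _
      · rw [hbδ _ w.2.1, sub_self]; exact zero_mem _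
      · intro h
        obtain ⟨n₁, hn₁, _, ⟨n₂, hn₂, rfl⟩, e⟩ := AddSubgroup.mem_sup.1 h
        have h1 : δ ((w : V) - n₂) = n₁ := by rw [map_sub, ← e, add_sub_cancel_right]
        have h3 := hFix _ ((W P E A).sub_mem w.2 (hN _ hn₂)) (h1 ▸ hN _ hn₁)
        exact hwN (by simpa using add_mem (c.F_le_lifted N₁ h3) hn₂)
      · intro h
        obtain ⟨n₁, hn₁, _, ⟨n₂, hn₂, rfl⟩, e⟩ := AddSubgroup.mem_sup.1 h
        have h1 : δ (n₂ - (w : V)) = (w : V) - n₁ := by
          rw [map_sub, _root_.sub_eq_sub_iff_add_eq_add, add_comm, e]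
        have h3 := hFix _ ((W P E A).sub_mem (hN _ hn₂) w.2)
          (h1 ▸ (W P E A).sub_mem w.2 (hN _ hn₁))
        exact hwN (by simpa using sub_mem hn₂ (c.F_le_lifted N₁ h3))
    have := Set.ncard_lt_ncard hsub (Set.toFinite _)
    rw [Set.ncard_image_of_injective _ Multiplicative.toAdd.injective] at this
    rw [← Nat.card_coe_set_eq, ← Nat.card_coe_set_eq] at this
    exact this
  · intro Z
    let Z' := (c.lifted Z).map (DistribSMul.toAddMonoidHom V g⁻¹)
    obtain ⟨B, hB⟩ : ∃ B, B = E ⊓ R P A ⊓ fixer Γ Z' := ⟨_, rfl⟩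
    have hBE : B < E := hB ▸ lt_of_le_of_ne (inf_le_left.trans inf_le_left)
      (fun e => hx₁R (e.ge hx₁).1.2)
    let ψ : ↥(E ⊓ R P A) →* Multiplicative (Z →+ V) :=
      (resTau P E A Z).comp
        { toFun := fun x => ⟨g * x * g⁻¹, c.conj_R hg x.2.2⟩
          map_one' := Subtype.ext (by simp)
          map_mul' := fun x y => Subtype.ext (by simp [mul_assoc]) }
    have hk : ψ.ker ≤ B.subgroupOf (E ⊓ R P A) := by
      intro x hx
      rw [Subgroup.mem_subgroupOf, hB]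
      refine ⟨x.2, mem_fixer.2 ?_⟩
      rintro _ ⟨v, hv, rfl⟩
      obtain ⟨hvW, hvZ⟩ := c.mem_lifted.1 hv
      have h : (g * (x : Γ) * g⁻¹) • v = v := resTau_eq_one.1 hx ⟨v, hvW⟩ hvZ
      rw [mul_smul, mul_smul, ← eq_inv_smul_iff] at h
      exact h
    haveI : Finite (Wb P E A →+ V) := Finite.of_injective _ DFunLike.coe_injective
    haveI : Finite (Z →+ V) := Finite.of_injective _ DFunLike.coe_injective
    have hr : Nat.card ψ.range ≤ Nat.card ((TT P E A).map (res Z)) := by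
      refine Nat.card_le_card_of_injective
        (fun y : ψ.range => (⟨Multiplicative.toAdd y.1, ?_⟩ : (TT P E A).map (res Z))) ?_
      · obtain ⟨x, hx⟩ := y.2
        exact ⟨_, ⟨_, rfl⟩, congrArg Multiplicative.toAdd hx⟩
      · intro y y' e
        simp only [Subtype.mk.injEq] at e
        exact Subtype.ext (Multiplicative.toAdd.injective e)
    have hE0 : Nat.card ↥(E ⊓ R P A) ≤ Nat.card ((TT P E A).map (res Z)) * Nat.card B := by
      rw [← Subgroup.card_mul_index ψ.ker, Subgroup.index_ker, mul_comm]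
      refine Nat.mul_le_mul hr ((Subgroup.card_le_of_le hk).trans_eq ?_)
      exact Nat.card_congr (Subgroup.subgroupOfEquivOfLe (hB ▸ inf_le_left)).toEquiv
    have hfix : Nat.card (fix V E) * Nat.card Z ≤ Nat.card (fix V B) := by
      have h1 := addCard_sup_mul_inf (fix V E) Z'
      have h2 : Nat.card Z' = Nat.card Z * Nat.card (F P A) := by
        rw [← c.card_lifted]
        exact (Nat.card_congr (AddSubgroup.equivMapOfInjective (c.lifted Z) _
          (MulAction.injective g⁻¹)).toEquiv).symm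
      have h3 : fix V E ⊔ Z' ≤ fix V B := hB ▸ sup_le (fix_anti (inf_le_left.trans inf_le_left))
        (fun v hv x hx => mem_fixer.1 hx.2 v hv)
      have h4 : fix V E ⊓ Z' ≤ F P A := by
        rintro _ ⟨hv, v, hvZ, rfl⟩
        obtain ⟨hvW, -⟩ := c.mem_lifted.1 hvZ
        have h5 := c.mem_F_of_two hg hgM hvW ⟨smul_mem_orb (inv_mem hg) hvW.1, hv⟩
        show g⁻¹ • v ∈ F P A
        rwa [c.smul_F (inv_mem hg) h5]
      refine Nat.le_of_mul_le_mul_right ?_ (Nat.card_pos (α := F P A))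
      rw [mul_assoc, ← h2, ← h1]
      exact Nat.mul_le_mul (AddSubgroup.card_le_of_le h3) (AddSubgroup.card_le_of_le h4)
    have hm := card_map_mul (res Z) (TT P E A)
    change Nat.card (kill (TT P E A) Z) * _ = _ at hm
    rw [← hm, mul_comm (Nat.card (kill _ _)), ← mul_assoc]
    refine Nat.mul_le_mul_right _ ?_
    refine Nat.le_of_mul_le_mul_right ?_ (Nat.card_pos (α := B))
    have hE : (R P A).relIndex E * Nat.card ↥(E ⊓ R P A) = Nat.card E := by
      rw [mul_comm, ← Subgroup.card_mul_index ((R P A).subgroupOf E), ← Subgroup.inf_subgroupOf_left,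
        Nat.card_congr (Subgroup.subgroupOfEquivOfLe (inf_le_left : E ⊓ R P A ≤ E)).toEquiv,
        Subgroup.inf_subgroupOf_left]
      rfl
    refine Nat.le_of_mul_le_mul_right ?_ (Nat.card_pos (α := fix V E))
    calc Nat.card Z * Nat.card B * Nat.card (fix V E)
        = Nat.card B * (Nat.card (fix V E) * Nat.card Z) := by ring
      _ ≤ Nat.card B * Nat.card (fix V B) := Nat.mul_le_mul_left _ hfix
      _ ≤ Nat.card E * Nat.card (fix V E) := (c.small B hBE).trans c.off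
      _ ≤ _ := Nat.mul_le_mul_right _ (by
        rw [← hE, mul_assoc]; exact Nat.mul_le_mul_left _ hE0)
  · obtain ⟨Z, hZ⟩ : ∃ Z, Z = (A.addSubgroupOf (W P E A)).map
        (QuotientAddGroup.mk' ((F P A).addSubgroupOf (W P E A))) := ⟨_, rfl⟩
    refine ⟨Z, ?_⟩
    haveI : Finite (Wb P E A →+ V) := Finite.of_injective _ DFunLike.coe_injective
    haveI : Finite (Z →+ V) := Finite.of_injective _ DFunLike.coe_injective
    have hm := card_map_mul (res Z) (TT P E A)
    change Nat.card (kill (TT P E A) Z) * _ = _ at hm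
    rw [← hm, mul_comm]
    refine Nat.mul_lt_mul_of_pos_right ?_ Nat.card_pos
    have hA : Nat.card Z * Nat.card (A ⊓ F P A : AddSubgroup V) = Nat.card A := by
      have h := card_map_mul (QuotientAddGroup.mk' ((F P A).addSubgroupOf (W P E A)))
        (A.addSubgroupOf (W P E A))
      rw [← hZ, QuotientAddGroup.ker_mk', Nat.card_congr
        (AddSubgroup.addSubgroupOfEquivOfLe c.AW).toEquiv] at h
      rw [← h, mul_comm]
      congr 1
      exact (Nat.card_congr (AddSubgroup.addSubgroupOfEquivOfLe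
        (inf_le_left.trans c.AW : A ⊓ F P A ≤ W P E A)).toEquiv).symm
    have hZmem : ∀ w : W P E A, QuotientAddGroup.mk w ∈ Z →
        ∃ a ∈ A, ∃ f ∈ F P A, (w : V) = a + f := by
      intro w hw
      rw [hZ] at hw
      obtain ⟨a, ha, e⟩ := hw
      have hm : -a + w ∈ (F P A).addSubgroupOf (W P E A) := QuotientAddGroup.eq.1 e
      exact ⟨a, ha, _, hm, (add_neg_cancel_left (a : V) (w : V)).symm⟩
    by_cases hmove : ∃ x ∈ R P A ⊓ T, ∃ a ∈ A, x • a ≠ a
    · have hi := c.ind (R P A ⊓ T) inf_le_right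
        (fun x hx y hy a ha => c.R_comm hx.1 hy.1 (mem_orb ha))
        (fun x hx a ha => c.R_sq hx.1 (mem_orb ha)) hmove
      let ψ : ↥(R P A ⊓ T) →* Multiplicative (Z →+ V) :=
        (resTau P E A Z).comp (Subgroup.inclusion inf_le_left)
      have hk : (fixer Γ A).subgroupOf (R P A ⊓ T) ≤ ψ.ker := by
        intro x hx
        refine resTau_eq_one.2 fun w hw => ?_
        obtain ⟨a, ha, f, hf, e⟩ := hZmem w hw
        show (x : Γ) • (w : V) = w
        rw [e, smul_add, show (x : Γ) • a = a from mem_fixer.1 hx a ha, c.smul_F x.2.1.1 hf]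
      have hle : Nat.card ((TT P E A).map (res Z)) ≤ Nat.card ψ.range := by
        refine Nat.card_le_card_of_surjective
          (fun y : ψ.range => (⟨Multiplicative.toAdd y.1, ?_⟩ : (TT P E A).map (res Z))) ?_
        · obtain ⟨x, hx⟩ := y.2
          exact ⟨_, ⟨_, rfl⟩, congrArg Multiplicative.toAdd hx⟩
        rintro ⟨_, _, ⟨r, rfl⟩, rfl⟩
        obtain ⟨t, ht, htR, htu⟩ := c.exists_T r.2
        refine ⟨⟨_, ⟨t, htR, ht⟩, rfl⟩, Subtype.ext ?_⟩
        show res Z (tau P E A ⟨t, htR⟩) = res Z (tau P E A r)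
        congr 1
        refine DFunLike.ext _ _ fun z => ?_
        obtain ⟨w, rfl⟩ := QuotientAddGroup.mk_surjective z
        rw [tau_mk, tau_mk, htu _ w.2.1]
      rw [← Subgroup.index_ker] at hle
      have hrel : ψ.ker.index ≤ (fixer Γ A).relIndex (R P A ⊓ T) :=
        Nat.le_of_dvd (Nat.pos_of_ne_zero Subgroup.index_ne_zero_of_finite)
          (Subgroup.index_dvd_of_le hk)
      refine Nat.lt_of_mul_lt_mul_right (a := Nat.card (A ⊓ F P A : AddSubgroup V)) ?_
      rw [hA]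
      refine lt_of_le_of_lt (Nat.mul_le_mul (hle.trans hrel) (AddSubgroup.card_le_of_le
        (show A ⊓ F P A ≤ A ⊓ fix V (R P A ⊓ T) from fun v hv =>
          ⟨hv.1, fun x hx => hv.2.2 x hx.1.1⟩))) hi
    · push Not at hmove
      have hbot : (TT P E A).map (res Z) = ⊥ := by
        rw [eq_bot_iff]
        rintro _ ⟨_, ⟨r, rfl⟩, rfl⟩
        refine DFunLike.ext _ _ fun z => ?_
        obtain ⟨w, hw⟩ := QuotientAddGroup.mk_surjective (z : Wb P E A)
        show tau P E A r (z : Wb P E A) = 0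
        obtain ⟨t, ht, htR, htu⟩ := c.exists_T r.2
        obtain ⟨a, ha, f, hf, e⟩ := hZmem w (hw ▸ z.2)
        rw [← hw, tau_mk, htu _ w.2.1, e, smul_add, hmove t ⟨htR, ht⟩ a ha, c.smul_F htR.1 hf,
          sub_self]
      rw [hbot, AddSubgroup.card_bot]
      by_contra hlt
      push Not at hlt
      haveI : Subsingleton Z := Finite.card_le_one_iff_subsingleton.1 hlt
      obtain ⟨p, hp, x, hx, a, ha, hne⟩ := c.moved
      have haZ : QuotientAddGroup.mk (⟨a, c.AW ha⟩ : W P E A) ∈ Z := hZ ▸ ⟨_, ha, rfl⟩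
      have h0 : (⟨_, haZ⟩ : Z) = 0 := Subsingleton.elim _ _
      have haF : a ∈ F P A := (QuotientAddGroup.eq_zero_iff (⟨a, c.AW ha⟩ : W P E A)).1 (congrArg Subtype.val h0)
      exact hne (by rw [c.smul_F hp haF, c.fixA x hx a ha])

end Conf

end Cfsg.Agent.FFLemma
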