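import Cfsg.Agent.FFLemma.Group
import Cfsg.Agent.S4Comp.Tools
import Cfsg.Agent.S4Comp.Sec
import Cfsg.Agent.Control.Sections
import Cfsg.Agent.QdFree.Control

/-!
# The pair `Z`, `J` controls fusion in groups without sections `Sym(4)`
-/

set_option autoImplicit false
set_option linter.unusedSectionVars false

namespace Cfsg.Agent.FFLemma

open Subgroup
open Cfsg.Agent.Control (cjSub SylIn Ctrl FusCtrl GoodRel)

universe u

/-- The centre and the Thompson subgroup as functors. -/
def pairFam : Set (∀ (Q : Type u) [Group Q], Subgroup Q) :=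
  {fun Q [Group Q] => center Q, fun Q [Group Q] => Cfsg.thompsonSubgroup 2 Q}

theorem isCharPFunctor_center {p : ℕ} [Fact p.Prime] :
    Cfsg.IsCharPFunctor.{u} p (fun Q [Group Q] => center Q) := by
  refine ⟨fun Q _ _ hQ _ e => ?_, fun Q R _ _ _ _ φ => ?_⟩
  · have := hQ.center_nontrivial
    exact (nontrivial_iff_ne_bot _).1 this e
  · ext x
    rw [mem_map]
    constructor
    · rintro ⟨y, hy, rfl⟩
      refine mem_center_iff.2 fun r => ?_
      obtain ⟨q, rfl⟩ := φ.surjective r
      show φ q * φ y = φ y * φ q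
      rw [← map_mul, ← map_mul, mem_center_iff.1 hy q]
    · intro hx
      refine ⟨φ.symm x, mem_center_iff.2 fun q => φ.injective ?_, φ.apply_symm_apply x⟩
      rw [map_mul, map_mul, φ.apply_symm_apply, mem_center_iff.1 hx]

theorem isCharPFunctor_thompson :
    Cfsg.IsCharPFunctor.{u} 2 (fun Q [Group Q] => Cfsg.thompsonSubgroup 2 Q) := by
  haveI : Fact (Nat.Prime 2) := ⟨Nat.prime_two⟩
  refine ⟨fun Q _ _ hQ _ e => ?_, fun Q R _ _ _ _ φ => Thompson.map_thompson φ⟩
  obtain ⟨A, hA⟩ := Thompson.exists_maxEA 2 Q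
  have hA1 : A = ⊥ := le_bot_iff.1 ((Thompson.le_thompson hA).trans_eq e)
  obtain ⟨x, hx⟩ := exists_prime_orderOf_dvd_card' (G := Q) 2 (by
    obtain ⟨n, hn⟩ := IsPGroup.iff_card.1 hQ
    rw [hn]
    refine dvd_pow_self 2 fun h0 => ?_
    rw [h0, pow_zero, Nat.card_eq_one_iff_unique] at hn
    haveI := hn.1
    exact false_of_nontrivial_of_subsingleton Q)
  have h1 := hA.2 _ (Thompson.ea_zpowers (p := 2) (x := x) (hx ▸ pow_orderOf_eq_one x))
  rw [hA1, Subgroup.card_bot, Nat.card_zpowers, hx] at h1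
  omega

theorem pairFam_char : ∀ W ∈ pairFam.{u}, Cfsg.IsCharPFunctor.{u} 2 W := by
  rintro W (rfl | rfl)
  · haveI : Fact (Nat.Prime 2) := ⟨Nat.prime_two⟩
    exact isCharPFunctor_center
  · exact isCharPFunctor_thompson

theorem induced_center {G : Type u} [Group G] (P : Subgroup G) :
    Cfsg.inducedFunctor (G := G) (fun Q [Group Q] => center Q) P = P ⊓ centralizer (P : Set G) := by
  ext x
  constructor
  · rintro ⟨z, hz, rfl⟩
    exact ⟨z.2, mem_centralizer_iff.2 fun y hy => congrArg Subtype.val (mem_center_iff.1 hz ⟨y, hy⟩)⟩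
  · rintro ⟨hx, hc⟩
    exact ⟨⟨x, hx⟩, mem_center_iff.2 fun y => Subtype.ext (mem_centralizer_iff.1 hc y y.2), rfl⟩

theorem iF_pairFam (G : Type u) [Group G] :
    Control.iF pairFam G = ({fun P : Subgroup G => P ⊓ centralizer (P : Set G),
      fun P : Subgroup G => Cfsg.thompsonSubgroupOf 2 P} : Set (Subgroup G → Subgroup G)) := by
  rw [Control.iF, pairFam, Set.image_insert_eq, Set.image_singleton]
  congr 1
  funext P
  exact induced_center P

variable {G : Type u} [Group G] [Finite G]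

/-- The Thompson subgroup lies in the centralizer of the closure of the centre. -/
theorem thompsonOf_le_centralizer_closure (h4 : ¬ Cfsg.Involves (Equiv.Perm (Fin 4)) G)
    (hc : centralizer (Cfsg.pCore 2 G : Set G) ≤ Cfsg.pCore 2 G) (S : Sylow 2 G) :
    Cfsg.thompsonSubgroupOf 2 (S : Subgroup G) ≤
      centralizer (normalClosure (((S : Subgroup G) ⊓ centralizer ((S : Subgroup G) : Set G) :
        Subgroup G) : Set G) : Set G) := by
  haveI : Fact (Nat.Prime 2) := ⟨Nat.prime_two⟩
  set Q := Cfsg.pCore 2 G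
  have hQn : Q.Normal := Core.pCore_normal
  set Z := (S : Subgroup G) ⊓ centralizer ((S : Subgroup G) : Set G)
  set ZQ := Q ⊓ centralizer (Q : Set G)
  have hQS : Q ≤ S := Core.pCore_le_sylow S
  have hZQ : Z ≤ ZQ := fun z hz => ⟨hc (centralizer_le hQS hz.2), centralizer_le hQS hz.2⟩
  have hcn : (centralizer (Q : Set G)).Normal := inferInstance
  have hZQn : ZQ.Normal := inferInstance
  set V := normalClosure (Z : Set G)
  have hVZ : V ≤ ZQ := normalClosure_le_normal hZQ
  have hVc : IsMulCommutative V := le_centralizer_iff_isMulCommutative.1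
    ((hVZ.trans inf_le_right).trans (centralizer_le (hVZ.trans inf_le_left)))
  have hVp : IsPGroup 2 V := Core.pCore_isPGroup.to_le (hVZ.trans inf_le_left)
  set M := Cfsg.omegaOne 2 V
  have hMn : M.Normal := by
    refine normalizer_eq_top_iff.1 (eq_top_iff.2 fun g _ => mem_normalizer_iff_map_conj_eq.2 ?_)
    have e := Thompson.omegaOne_map_of_injective (f := (MulAut.conj g).toMonoidHom) (p := 2)
      (MulAut.conj g).injective V
    rw [show V.map (MulAut.conj g).toMonoidHom = V from mem_normalizer_iff_map_conj_eq.1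
      (by rw [normalizer_eq_top_iff.2 normalClosure_normal]; exact mem_top g)] at e
    exact e
  have hMe : Cfsg.IsElementaryAbelian 2 M :=
    Thompson.omegaOne_ea (le_centralizer_iff_isMulCommutative.2 hVc)
  set C := centralizer (M : Set G)
  have hSZ : (S : Subgroup G) ≤ centralizer (Z : Set G) := le_centralizer_iff.1 inf_le_right
  -- a normal `2`-group modulo `C` centralises the closure
  have hpre : ∀ D : Subgroup G, D.Normal → C ≤ D → IsPGroup 2 (D.map (QuotientGroup.mk' C)) →
      D ≤ centralizer (V : Set G) := by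
    intro D hD hCD hD2
    have hcV : (centralizer (V : Set G)).Normal := inferInstance
    have htwo : IsPGroup 2 (D.map (QuotientGroup.mk' (centralizer (V : Set G)))) := by
      rintro ⟨_, d, hd, rfl⟩
      obtain ⟨k, hk⟩ := hD2 ⟨_, mem_map_of_mem _ hd⟩
      have hk' : d ^ 2 ^ k ∈ C := (QuotientGroup.eq_one_iff _).1 (by
        have := congrArg Subtype.val hk
        simpa using this)
      obtain ⟨s, m, hm, he⟩ := Nat.exists_eq_pow_mul_and_not_dvd (orderOf_pos (d ^ 2 ^ k)).ne' 2
        (by norm_num)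
      have hy : (d ^ 2 ^ k) ^ 2 ^ s ∈ centralizer (V : Set G) := by
        refine S4Comp.sq_le_centralizer hVp ?_ ?_ (pow_mem hk' _)
        · rw [normalizer_eq_top_iff.2 normalClosure_normal]; exact mem_top _
        · rw [orderOf_pow_of_dvd (by positivity) ⟨m, he⟩, he,
            Nat.mul_div_cancel_left _ (by positivity)]
          exact Nat.odd_iff.2 (by omega)
      refine ⟨k + s, Subtype.ext ?_⟩
      show (QuotientGroup.mk' _ d) ^ 2 ^ (k + s) = 1
      rw [← map_pow, pow_add, pow_mul]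
      exact (QuotientGroup.eq_one_iff _).2 hy
    obtain ⟨P, hP⟩ := Invol.exists_sylow_eq_inf S D
    let π := (QuotientGroup.mk' (centralizer (V : Set G))).subgroupMap D
    have hπ := (QuotientGroup.mk' (centralizer (V : Set G))).subgroupMap_surjective D
    have htop : (P : Subgroup D).map π = ⊤ :=
      ((P.mapSurjective hπ).3 (htwo.to_subgroup ⊤) le_top).symm.trans rfl
    have hDle : D ≤ centralizer (Z : Set G) := by
      intro d hd
      obtain ⟨p, hp, hpd⟩ := htop.ge (mem_top (π ⟨d, hd⟩))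
      have hpS : (p : G) ∈ (S : Subgroup G) := by rw [hP] at hp; exact (mem_subgroupOf.1 hp).1
      have hc : d * (p : G)⁻¹ ∈ centralizer (V : Set G) := (QuotientGroup.eq_one_iff _).1 (by
        have h' : QuotientGroup.mk' (centralizer (V : Set G)) (p : G) = QuotientGroup.mk' _ d :=
          congrArg Subtype.val hpd
        show QuotientGroup.mk' _ (d * (p : G)⁻¹) = 1
        rw [map_mul, map_inv, h', mul_inv_cancel])
      have := mul_mem (centralizer_le subset_normalClosure hc) (hSZ hpS)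
      rwa [inv_mul_cancel_right] at this
    refine le_centralizer_iff.1 (normalClosure_le_normal ?_)
    exact le_centralizer_iff.1 hDle
  have hCV : C ≤ centralizer (V : Set G) := hpre C inferInstance le_rfl (by
    rw [QuotientGroup.map_mk'_self]; exact IsPGroup.of_bot)
  have hO : Cfsg.pCore 2 (G ⧸ C) = ⊥ := by
    have hn : (Cfsg.pCore 2 (G ⧸ C)).Normal := Core.pCore_normal
    set D := (Cfsg.pCore 2 (G ⧸ C)).comap (QuotientGroup.mk' C)
    have hDmap : D.map (QuotientGroup.mk' C) = Cfsg.pCore 2 (G ⧸ C) :=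
      map_comap_eq_self_of_surjective (QuotientGroup.mk'_surjective C) _
    have hle := hpre D inferInstance (by
      intro c hc
      show QuotientGroup.mk' C c ∈ Cfsg.pCore 2 (G ⧸ C)
      rw [show QuotientGroup.mk' C c = 1 from (QuotientGroup.eq_one_iff c).2 hc]
      exact one_mem _) (hDmap ▸ Core.pCore_isPGroup)
    rw [← hDmap, eq_bot_iff]
    rintro _ ⟨d, hd, rfl⟩
    exact mem_bot.2 ((QuotientGroup.eq_one_iff d).2
      (centralizer_le (Thompson.omegaOne_le 2 V) (hle hd)))
  have hMS : M ≤ (S : Subgroup G) :=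
    (Thompson.omegaOne_le 2 V).trans ((hVZ.trans inf_le_left).trans hQS)
  exact (thompsonOf_le_centralizer h4 hMe hO hMS).trans hCV

/-- The Thompson subgroup of a subgroup above it. -/
theorem thompsonOf_eq_between {S F : Subgroup G} (hFS : F ≤ S)
    (hJ : Cfsg.thompsonSubgroupOf 2 S ≤ F) :
    Cfsg.thompsonSubgroupOf 2 F = Cfsg.thompsonSubgroupOf 2 S := by
  have h1 : Cfsg.thompsonSubgroup 2 S ≤ F.subgroupOf S := fun x hx => hJ ⟨x, hx, rfl⟩
  have h2 := Thompson.thompsonOf_eq_of_le (p := 2) h1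
  rw [show Cfsg.thompsonSubgroupOf 2 S = (Cfsg.thompsonSubgroup 2 S).map S.subtype from rfl, ← h2,
    Thompson.thompsonOf_map_of_injective S.subtype_injective, map_subgroupOf_eq_of_le hFS]

theorem mem_normalizer_thompsonOf {F : Subgroup G} {g : G} (hg : g ∈ normalizer (F : Set G)) :
    g ∈ normalizer ((Cfsg.thompsonSubgroupOf 2 F : Subgroup G) : Set G) := by
  rw [mem_normalizer_iff_map_conj_eq,
    Thompson.thompsonOf_map_of_injective (MulAut.conj g).injective,
    mem_normalizer_iff_map_conj_eq.1 hg]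

/-- The pair controls fusion in constrained groups. -/
theorem gFus_constrained (h4 : ¬ Cfsg.Involves (Equiv.Perm (Fin 4)) G)
    (hc : centralizer (Cfsg.pCore 2 G : Set G) ≤ Cfsg.pCore 2 G) :
    Control.GFus pairFam 2 G := by
  haveI : Fact (Nat.Prime 2) := ⟨Nat.prime_two⟩
  obtain ⟨S⟩ := (inferInstance : Nonempty (Sylow 2 G))
  rw [Control.GFus, iF_pairFam]
  refine Control.famFus_iff.mpr ⟨_, Control.sylIn_top S, ?_⟩
  obtain ⟨𝒩, h𝒩⟩ : ∃ 𝒩, 𝒩 = Control.normSet ({fun P : Subgroup G => P ⊓ centralizer (P : Set G),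
      fun P : Subgroup G => Cfsg.thompsonSubgroupOf 2 P} : Set (Subgroup G → Subgroup G)) ⊤
      (S : Subgroup G) := ⟨_, rfl⟩
  have hZN : (⊤ : Subgroup G) ⊓ normalizer
      (((S : Subgroup G) ⊓ centralizer ((S : Subgroup G) : Set G) : Subgroup G) : Set G) ∈ 𝒩 :=
    h𝒩 ▸ ⟨_, Or.inl rfl, rfl⟩
  have hJN : (⊤ : Subgroup G) ⊓ normalizer
      ((Cfsg.thompsonSubgroupOf 2 (S : Subgroup G) : Subgroup G) : Set G) ∈ 𝒩 :=
    h𝒩 ▸ ⟨_, Or.inr rfl, rfl⟩
  let Good : Set G → G → Prop := fun A g => Ctrl 𝒩 (S : Subgroup G) A g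
  have hG : GoodRel S Good :=
    { mono := fun h hB => h.mono hB
      trans := fun h1 h2 => h1.trans h2
      inv := fun h hA => h.inv hA
      congr := fun h1 heq => h1.of_eqOn heq }
  intro A x _ hA hxA
  rw [← h𝒩]
  refine Ctrl.mono (Control.skeleton S hG ?_ ?_ (closure A) ((closure_le _).2 hA) x
    (Control.closure_subset_of_cj hxA)) subset_closure
  · intro m hm
    exact Ctrl.of_mem hJN ⟨mem_top m, mem_normalizer_thompsonOf hm⟩
      (by rw [← Control.coe_cjSub, Control.cjSub_eq_of_mem hm])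
  intro F hF hsyl _ habove m hm
  set X := normalizer (F : Set G)
  set R := (S : Subgroup G) ⊓ X
  have hFS : F ≤ S := hF.le
  have hcj : ∀ {y : G}, y ∈ X → Control.cj y (F : Set G) ⊆ (S : Subgroup G) := fun hy => by
    rw [← Control.coe_cjSub, Control.cjSub_eq_of_mem hy]
    exact hFS
  have hbig : ∀ F' : Subgroup G, F' ≤ S → ¬ F' ≤ F → ∀ y ∈ X, y ∈ normalizer (F' : Set G) →
      Good (F : Set G) y := by
    intro F' hF' hn y hy hy'
    refine hG.mono (habove (F ⊔ F') (Core.card_lt_of_lt (left_lt_sup.2 hn)) (sup_le hFS hF') y ?_)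
      (SetLike.coe_subset_coe.2 le_sup_left)
    rw [cjSub, Subgroup.map_sup]
    exact sup_le ((Control.cjSub_eq_of_mem hy).le.trans hFS)
      ((Control.cjSub_eq_of_mem hy').le.trans hF')
  set C := centralizer (normalClosure (((S : Subgroup G) ⊓ centralizer ((S : Subgroup G) : Set G) :
    Subgroup G) : Set G) : Set G)
  have hJC : Cfsg.thompsonSubgroupOf 2 (S : Subgroup G) ≤ C :=
    thompsonOf_le_centralizer_closure h4 hc S
  have hCn : C.Normal := inferInstance
  obtain ⟨c, hcC, y, hy, rfl⟩ := S4Comp.frattini_in hsyl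
    (show X ≤ normalizer (C : Set G) by rw [normalizer_eq_top_iff.2 hCn]; exact le_top) hm
  have hcX : c ∈ X := (mem_inf.1 hcC).2
  have hyX : y ∈ X := (mem_inf.1 hy).1
  have hgc : Good (F : Set G) c := by
    refine Ctrl.of_mem hZN ⟨mem_top c, ?_⟩ (hcj hcX)
    exact centralizer_le_normalizer _ (centralizer_le subset_normalClosure (mem_inf.1 hcC).1)
  refine hG.trans ?_ (by rwa [← Control.coe_cjSub, Control.cjSub_eq_of_mem hyX])
  by_cases hRC : R ⊓ C ≤ F
  swap
  · exact hbig _ (inf_le_left.trans inf_le_left) hRC y hyX (mem_inf.1 hy).2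
  have hTF : (S : Subgroup G) ⊓ C ≤ F := by
    refine S4Comp.le_of_inf_normalizer_le S.2 hFS inf_le_left ?_ fun z hz => hRC ?_
    · refine (le_inf (hFS.trans le_normalizer) ?_).trans inf_normalizer_le_normalizer_inf
      rw [normalizer_eq_top_iff.2 hCn]; exact le_top
    · obtain ⟨hz1, hz2⟩ := mem_inf.1 hz
      exact mem_inf.2 ⟨mem_inf.2 ⟨(mem_inf.1 hz1).1, hz2⟩, (mem_inf.1 hz1).2⟩
  refine Ctrl.of_mem hJN ⟨mem_top y, ?_⟩ (hcj hyX)
  rw [← thompsonOf_eq_between hFS ((le_inf (Thompson.thompsonOf_le 2 _) hJC).trans hTF)]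
  exact mem_normalizer_thompsonOf hyX

/-- The pair controls fusion in every section. -/
theorem gFus_pair (h4 : ¬ Cfsg.Involves (Equiv.Perm (Fin 4)) G) : Control.GFus pairFam 2 G := by
  haveI : Fact (Nat.Prime 2) := ⟨Nat.prime_two⟩
  refine Control.gFus_of_quotients pairFam_char (fun K R _ hc => gFus_constrained ?_ hc)
    Control.IsSec.refl
  exact fun h => h4 (QdFree.involves_of_subgroup
    (QdFree.involves_of_surjective h (QuotientGroup.mk'_surjective _)))

omit [Finite G] in
/-- In a copy of Qd(p) no family of characteristic functors controls fusion. -/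
theorem not_gFus_qd {p : ℕ} [Fact p.Prime] {Y : Type u} [Group Y] [Finite Y]
    (e : QdFree.Affine (ZMod p) ≃* Y) {F : Set (∀ (Q : Type u) [Group Q], Subgroup Q)}
    (hF : ∀ W ∈ F, Cfsg.IsCharPFunctor.{u} p W) : ¬ Control.GFus F p Y := by
  intro h
  obtain ⟨T⟩ := (inferInstance : Nonempty (Sylow p Y))
  have hd : p ∣ Nat.card Y := by
    rw [← Nat.card_congr e.toEquiv, QdFree.card_affine]
    exact Dvd.dvd.mul_right (dvd_pow_self p three_ne_zero) _
  have hnt : Nontrivial T := (nontrivial_iff_ne_bot _).mpr fun h => T.ne_bot_of_dvd_card hd h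
  set T₀ : Sylow p (QdFree.Affine (ZMod p)) :=
    T.mapSurjective (f := e.symm.toMonoidHom) e.symm.surjective
  let f : T ≃* (T₀ : Subgroup (QdFree.Affine (ZMod p))) :=
    ((T : Subgroup Y).equivMapOfInjective e.symm.toMonoidHom e.symm.injective).trans
      (MulEquiv.subgroupCongr
        (Sylow.coe_mapSurjective (f := e.symm.toMonoidHom) e.symm.surjective T).symm)
  have hnorm : ∀ W ∈ F,
      (normalizer ((Cfsg.inducedFunctor (G := Y) W (T : Subgroup Y) : Subgroup Y) : Set Y)).map
        e.symm.toMonoidHom = normalizer ((T₀ : Subgroup (QdFree.Affine (ZMod p))) : Set _) := by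
    intro W hW
    have hU : W T ≠ ⊥ := (hF W hW).1 T T.2 hnt
    have hUc : ∀ θ : T ≃* T, (W T).map θ.toMonoidHom = W T := fun θ => (hF W hW).2 T T T.2 θ
    obtain ⟨h1, -⟩ := QdFree.normalizer_eq_of_characteristic T₀ (T := (W T).map f.toMonoidHom)
      (fun h => hU ((map_eq_bot_iff_of_injective _ f.injective).mp h)) fun θ => by
        conv_rhs => rw [← hUc ((f.trans θ).trans f.symm)]
        rw [Subgroup.map_map, Subgroup.map_map]
        congr 1
        refine MonoidHom.ext fun t => ?_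
        exact (f.apply_symm_apply _).symm
    have hmap : ((W T).map f.toMonoidHom).map (T₀ : Subgroup (QdFree.Affine (ZMod p))).subtype =
        ((W T).map (T : Subgroup Y).subtype).map e.symm.toMonoidHom := by
      rw [Subgroup.map_map, Subgroup.map_map]
      rfl
    rw [hmap] at h1
    rw [← h1]
    exact map_equiv_normalizer_eq _ e.symm
  obtain ⟨hfus⟩ : Nonempty (FusCtrl (Control.normSet (Control.iF F Y) ⊤ (T : Subgroup Y))
      (T : Subgroup Y) ⊤) :=
    ⟨(Control.famFus_iff_forall (Control.isConjugacyFunctor_iF hF) (Control.sylIn_top T)).mp h⟩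
  by_cases hne : F.Nonempty
  · obtain ⟨W₁, hW₁⟩ := hne
    refine QdFree.not_controlsStrongFusion_functor (hF W₁ hW₁) e T ⟨T, map_subtype_le _,
      fun A hA => ⟨hA, fun g hg => ?_⟩⟩
    obtain ⟨c, hcR, hce⟩ := hfus A g (mem_top g) hA hg
    refine ⟨c, hcR.mem (fun N hN => ?_), fun a ha => (hce a ha).symm⟩
    obtain ⟨_, ⟨W, hW, rfl⟩, rfl⟩ := hN
    refine inf_le_right.trans (le_of_eq (map_injective (f := e.symm.toMonoidHom) e.symm.injective ?_))
    rw [hnorm W hW, hnorm W₁ hW₁]
  · refine QdFree.not_controlsStrongFusion_functor (W := fun Q [Group Q] => center Q) ?_ e T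
      ⟨T, map_subtype_le _, fun A hA => ⟨hA, fun g hg => ?_⟩⟩
    · exact isCharPFunctor_center
    obtain ⟨c, hcR, hce⟩ := hfus A g (mem_top g) hA hg
    refine ⟨c, hcR.mem (fun N hN => ?_), fun a ha => (hce a ha).symm⟩
    obtain ⟨_, ⟨W, hW, rfl⟩, rfl⟩ := hN
    exact absurd ⟨W, hW⟩ hne

end Cfsg.Agent.FFLemma
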