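import Cfsg.Agent.FFLemma.Idem

/-!
# The counting lemma for a module and a module of maps out of it

`card_le_of_dual` : the second module is a right module, turned into a left one by characters.
-/

set_option autoImplicit false

namespace Cfsg.Agent.FFLemma

variable {B X : Type*} [Ring B] [AddCommGroup X]

/-- A right action as endomorphisms of the characters. -/
noncomputable def dualHom (π : B → X →+ X) (hmul : ∀ a b x, π (a * b) x = π b (π a x))
    (hone : ∀ x, π 1 x = x) (hadd : ∀ a b x, π (a + b) x = π a x + π b x) :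
    B →+* AddMonoid.End (AddChar X ℂ) where
  toFun θ :=
    { toFun := fun χ => χ.compAddMonoidHom (π θ)
      map_zero' := by ext x; simp
      map_add' := fun χ ψ => by ext x; simp }
  map_one' := by
    refine AddMonoidHom.ext fun χ => ?_
    ext x
    show χ (π 1 x) = χ x
    rw [hone]
  map_mul' a b := by
    refine AddMonoidHom.ext fun χ => ?_
    ext x
    show χ (π (a * b) x) = χ (π b (π a x))
    rw [hmul]
  map_zero' := by
    refine AddMonoidHom.ext fun χ => ?_
    ext x
    show χ (π 0 x) = (0 : AddChar X ℂ) x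
    have h := hadd 0 0 x
    rw [add_zero] at h
    rw [eq_comm, add_eq_right] at h
    rw [h, χ.map_zero_eq_one, AddChar.zero_apply]
  map_add' a b := by
    refine AddMonoidHom.ext fun χ => ?_
    ext x
    show χ (π (a + b) x) = χ (π a x) * χ (π b x)
    rw [hadd, χ.map_add_eq_mul]

/-- Counting for a module and a right module. -/
theorem card_le_of_dual [Finite B] [Finite X] {Y : Type*} [AddCommGroup Y] [Module B Y] [Finite Y]
    (π : B → X →+ X) (hmul : ∀ a b x, π (a * b) x = π b (π a x)) (hone : ∀ x, π 1 x = x)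
    (hadd : ∀ a b x, π (a + b) x = π a x + π b x) (q : ℕ)
    (hq : ∀ N₁ N₂ : Submodule B Y, N₁ ⋖ N₂ → Nat.card N₁ * q < Nat.card N₂)
    (h : ∀ ε : B, ε * ε = ε →
      Nat.card (img ε (⊤ : Submodule B Y)) ≤ q * Nat.card (π ε).range) :
    Nat.card Y ≤ Nat.card X := by
  classical
  letI : Fintype X := Fintype.ofFinite X
  letI : Module B (AddChar X ℂ) := Module.compHom _ (dualHom π hmul hone hadd)
  have hsm : ∀ (θ : B) (χ : AddChar X ℂ) (x : X), (θ • χ) x = χ (π θ x) := fun _ _ _ => rfl
  have hX : Nat.card (AddChar X ℂ) = Nat.card X := by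
    rw [Nat.card_eq_fintype_card, Nat.card_eq_fintype_card, AddChar.card_eq]
  rw [← hX]
  refine card_le_of_idem q hq fun ε hε => ?_
  refine (h ε hε).trans (Nat.mul_le_mul_left q (le_of_eq ?_))
  -- characters of the image
  letI : Fintype (π ε).range := Fintype.ofFinite _
  have hY : Nat.card (AddChar (π ε).range ℂ) = Nat.card (π ε).range := by
    rw [Nat.card_eq_fintype_card, Nat.card_eq_fintype_card, AddChar.card_eq]
  have hidem : ∀ x, π ε (π ε x) = π ε x := fun x => by rw [← hmul, hε]
  rw [← hY]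
  let back : AddChar (π ε).range ℂ → img ε (⊤ : Submodule B (AddChar X ℂ)) := fun ψ =>
    ⟨ψ.compAddMonoidHom (π ε).rangeRestrict, ψ.compAddMonoidHom (π ε).rangeRestrict, trivial, by
      ext x
      show (ε • ψ.compAddMonoidHom (π ε).rangeRestrict) x = _
      rw [hsm]
      show ψ ((π ε).rangeRestrict (π ε x)) = ψ ((π ε).rangeRestrict x)
      congr 1
      exact Subtype.ext (hidem x)⟩
  refine Nat.card_congr (Equiv.ofBijective back ⟨fun ψ ψ' he => ?_, fun ⟨χ, hχ⟩ => ?_⟩)
  · ext ⟨y, x, rfl⟩
    exact congrArg (fun c : img ε (⊤ : Submodule B (AddChar X ℂ)) => (c : AddChar X ℂ) x) he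
  · obtain ⟨χ₀, -, rfl⟩ := hχ
    refine ⟨χ₀.compAddMonoidHom (π ε).range.subtype, Subtype.ext ?_⟩
    ext x
    show χ₀ (π ε x) = (ε • χ₀) x
    rw [hsm]

end Cfsg.Agent.FFLemma
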