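import Cfsg.Agent.FFLemma.Main
import Cfsg.Agent.S4InvolveAux
import Cfsg.Agent.Thompson.Basic

/-!
# Thompson subgroups centralise reduced modules

`thompsonOf_le_centralizer`: in a finite group without sections `Sym(4)`, if `V` is normal
elementary abelian with `O₂(G/C(V)) = 1`, then `J(S) ≤ C(V)` for every `2`-subgroup `S` over `V`.
-/

set_option autoImplicit false
set_option linter.unusedSectionVars false

namespace Cfsg.Agent.FFLemma

open Subgroup Cfsg.Agent.PGV

universe u

variable {G : Type u} [Group G] [Finite G]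

/-- The quotient by the centralizer of an elementary abelian `2`-group has no section `Sym(3)`. -/
theorem quotient_centralizer_s3Free (h4 : ¬ Cfsg.Involves (Equiv.Perm (Fin 4)) G) {V : Subgroup G}
    [V.Normal] (hV : Cfsg.IsElementaryAbelian 2 V) :
    ¬ Cfsg.Involves (Equiv.Perm (Fin 3)) (G ⧸ centralizer (V : Set G)) := by
  intro h
  haveI : Fact (Nat.Prime 2) := ⟨Nat.prime_two⟩
  obtain ⟨C, hC⟩ : ∃ C, C = centralizer (V : Set G) := ⟨_, rfl⟩
  have hCn : (centralizer (V : Set G)).Normal := inferInstance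
  obtain ⟨M, g, hg⟩ := QdFree.exists_surjective_of_involves h
  let π := QuotientGroup.mk' (centralizer (V : Set G))
  let K : Subgroup G := M.comap π
  have hs : Function.Surjective (π.subgroupComap M) :=
    MonoidHom.subgroupComap_surjective_of_surjective π M (QuotientGroup.mk'_surjective _)
  obtain ⟨z, t, ⟨j, ht⟩, hzo, ⟨k, hzk⟩, hinv, hz1⟩ :=
    S4InvolveAux.exists_inverted (g.comp (π.subgroupComap M)) (hg.comp hs)
  have hzC : (z : G) ∉ C := by
    intro hm
    refine hz1 ?_
    rw [MonoidHom.comp_apply]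
    refine (congrArg g (Subtype.ext ?_)).trans (map_one g)
    exact (QuotientGroup.eq_one_iff (z : G)).2 (hC ▸ hm)
  classical
  have hex : ∃ i : ℕ, (z : G) ^ 3 ^ i ∈ C :=
    ⟨k, by rw [← SubmonoidClass.coe_pow, hzk]; exact one_mem C⟩
  obtain ⟨i, hi⟩ : ∃ i, Nat.find hex = i + 1 := ⟨Nat.find hex - 1, by
    have : Nat.find hex ≠ 0 := fun e => hzC (by simpa [e] using Nat.find_spec hex)
    omega⟩
  have hi1 : (z : G) ^ 3 ^ (i + 1) ∈ C := hi ▸ Nat.find_spec hex
  have hi0 : (z : G) ^ 3 ^ i ∉ C := Nat.find_min hex (by omega)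
  have htN : ∀ y : G, y ∈ normalizer (V : Set G) := fun y => by
    rw [normalizer_eq_top_iff.2 inferInstance]; exact mem_top y
  refine h4 (S4InvolveAux.involves_s4_of_inverted (Thompson.ea_isPGroup hV) (z := (z : G) ^ 3 ^ i)
    (t := (t : G)) (htN _) (htN _) ?_ (hC ▸ hi0) ?_ ?_ (j := j) ?_)
  · have ho : Odd (orderOf (z : G)) := by rw [orderOf_coe]; exact hzo
    exact ho.of_dvd_nat (orderOf_pow_dvd _)
  · rw [← pow_mul, ← pow_succ]; exact hC ▸ hi1
  · have h1 : (t : G) * z * (t : G)⁻¹ = (z : G)⁻¹ := congrArg Subtype.val hinv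
    rw [← conj_pow, h1, inv_pow, inv_mul_cancel]
    exact one_mem _
  · rw [show (t : G) ^ 2 ^ j = 1 from congrArg Subtype.val ht]
    exact one_mem _

/-- The main consequence. -/
theorem thompsonOf_le_centralizer (h4 : ¬ Cfsg.Involves (Equiv.Perm (Fin 4)) G) {V : Subgroup G}
    [V.Normal] (hV : Cfsg.IsElementaryAbelian 2 V)
    (hO : Cfsg.pCore 2 (G ⧸ centralizer (V : Set G)) = ⊥) {S : Subgroup G} (hVS : V ≤ S) :
    Cfsg.thompsonSubgroupOf 2 S ≤ centralizer (V : Set G) := by
  classical
  haveI : Fact (Nat.Prime 2) := ⟨Nat.prime_two⟩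
  have hVab : ∀ a ∈ V, ∀ b ∈ V, a * b = b * a := fun a ha b hb =>
    (mem_centralizer_iff.1 ((Thompson.ea_iff.1 hV).1 hb) a ha)
  letI : CommGroup V :=
    { (inferInstance : Group V) with mul_comm := fun a b => Subtype.ext (hVab a a.2 b b.2) }
  let ρ : G →* MulAut V := MulAut.conjNormal
  have hker : centralizer (V : Set G) ≤ ρ.ker := fun c hc => by
    refine MonoidHom.mem_ker.2 (MulEquiv.ext fun v => Subtype.ext ?_)
    show (ρ c v : G) = v
    rw [MulAut.conjNormal_apply, mul_inv_eq_iff_eq_mul]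
    exact (mem_centralizer_iff.1 hc v v.2).symm
  let ρb : G ⧸ centralizer (V : Set G) →* MulAut V := QuotientGroup.lift _ ρ hker
  letI : DistribMulAction (G ⧸ centralizer (V : Set G)) (Additive V) :=
    { smul := fun q a => Additive.ofMul (ρb q a.toMul)
      one_smul := fun a => by
        show Additive.ofMul (ρb 1 a.toMul) = a
        rw [map_one]; rfl
      mul_smul := fun q r a => by
        show Additive.ofMul (ρb (q * r) a.toMul) = _
        rw [map_mul]; rfl
      smul_zero := fun q => congrArg Additive.ofMul (map_one (ρb q))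
      smul_add := fun q a b => congrArg Additive.ofMul (map_mul (ρb q) a.toMul b.toMul) }
  have hact : ∀ (g : G) (a : Additive V),
      (((QuotientGroup.mk g : G ⧸ centralizer (V : Set G)) • a).toMul : G) = g * a.toMul * g⁻¹ :=
    fun g a => MulAut.conjNormal_apply g a.toMul
  haveI : FaithfulSMul (G ⧸ centralizer (V : Set G)) (Additive V) := by
    refine ⟨fun {x y} e => ?_⟩
    obtain ⟨g, rfl⟩ := QuotientGroup.mk_surjective x
    obtain ⟨h, rfl⟩ := QuotientGroup.mk_surjective y
    refine (QuotientGroup.eq).2 (mem_centralizer_iff.2 fun v hv => ?_)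
    have h1 := congrArg (fun a : Additive V => (a.toMul : G)) (e (Additive.ofMul ⟨v, hv⟩))
    simp only [hact, toMul_ofMul] at h1
    have h2 : v * (g⁻¹ * h) = g⁻¹ * (g * v * g⁻¹) * h := by group
    rw [h2, h1]
    group
  refine Thompson.thompsonOf_le_iff.2 fun A hA hea hmax => ?_
  obtain ⟨π, hπ⟩ : ∃ π, π = QuotientGroup.mk' (centralizer (V : Set G)) := ⟨_, rfl⟩
  have hs3 := quotient_centralizer_s3Free h4 hV
  by_contra hnot
  have hEne : A.map π ≠ ⊥ := fun e => hnot (by
    intro a ha
    have : π a ∈ A.map π := mem_map_of_mem π ha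
    rw [e, Subgroup.mem_bot, hπ, QuotientGroup.mk'_apply, QuotientGroup.eq_one_iff] at this
    exact this)
  have hAc : ∀ a ∈ A, ∀ b ∈ A, Commute a b := fun a ha b hb =>
    (mem_centralizer_iff.1 ((Thompson.ea_iff.1 hea).1 hb) a ha)
  have hFF := no_offender (V := Additive V) (fun a => Subtype.ext (by
      show (a.toMul : G) * a.toMul = 1
      rw [← sq]; exact (Thompson.ea_iff.1 hV).2 _ a.toMul.2)) hO hs3 (E := A.map π)
    (by rintro _ ⟨a, ha, rfl⟩ _ ⟨b, hb, rfl⟩; exact (hAc a ha b hb).map π)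
    (by rintro _ ⟨a, ha, rfl⟩; rw [← map_pow, (Thompson.ea_iff.1 hea).2 a ha, map_one]) hEne
  refine hFF.not_ge ?_
  -- the competitor
  obtain ⟨B, hB⟩ : ∃ B, B = A ⊓ centralizer (V : Set G) := ⟨_, rfl⟩
  have hBV : B ≤ centralizer (V : Set G) := hB ▸ inf_le_right
  have hBea : Cfsg.IsElementaryAbelian 2 B := Thompson.ea_iff.2
    ⟨fun x hx => mem_centralizer_iff.2 fun y hy =>
      (hAc y (hB ▸ hy).1 x (hB ▸ hx).1).eq, fun x hx => (Thompson.ea_iff.1 hea).2 x (hB ▸ hx).1⟩
  have hle := hmax (B ⊔ V) (sup_le (hB ▸ inf_le_left.trans hA) hVS) (Thompson.ea_sup hBea hV hBV)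
  have e1 : Nat.card (B ⊔ V : Subgroup G) * Nat.card (B ⊓ V : Subgroup G) =
      Nat.card B * Nat.card V :=
    Cfsg.Agent.S0606.card_sup_mul_card_inf_of_le_normalizer
      (fun x _ => by rw [normalizer_eq_top_iff.2 inferInstance]; exact mem_top x)
  have e2 : Nat.card A = Nat.card (A.map π) * Nat.card B := by
    have h1 := Subgroup.card_mul_index ((centralizer (V : Set G)).subgroupOf A)
    rw [← Subgroup.inf_subgroupOf_left, Nat.card_congr (subgroupOfEquivOfLe (inf_le_left :
      A ⊓ centralizer (V : Set G) ≤ A)).toEquiv, Subgroup.inf_subgroupOf_left, ← hB] at h1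
    have h2 : Nat.card (A.map π) = ((centralizer (V : Set G)).subgroupOf A).index := by
      have h3 : (π.comp A.subtype).range = A.map π := by
        rw [MonoidHom.range_comp, range_subtype]
      rw [← h3, ← Subgroup.index_ker]
      congr 1
      ext x
      simp [hπ, mem_subgroupOf, QuotientGroup.eq_one_iff]
    rw [← h1, h2, mul_comm]
  have e3 : Nat.card (B ⊓ V : Subgroup G) ≤ Nat.card (fix (Additive V) (A.map π)) := by
    have hfix : ∀ x : (B ⊓ V : Subgroup G),
        Additive.ofMul (⟨x, x.2.2⟩ : V) ∈ fix (Additive V) (A.map π) := by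
      rintro x _ ⟨a, ha, rfl⟩
      refine Additive.toMul.injective (Subtype.ext ?_)
      rw [hπ, QuotientGroup.mk'_apply, hact]
      show a * (x : G) * a⁻¹ = x
      rw [(hAc a ha x (hB.le x.2.1).1).eq, mul_inv_cancel_right]
    exact Nat.card_le_card_of_injective
      (fun x => (⟨_, hfix x⟩ : fix (Additive V) (A.map π)))
      (fun x y h => Subtype.ext (congrArg (fun a : fix (Additive V) (A.map π) =>
        ((a : Additive V).toMul : G)) h))
  have e4 : Nat.card (Additive V) = Nat.card V := Nat.card_congr Additive.toMul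
  refine Nat.le_of_mul_le_mul_left ?_ (Nat.card_pos (α := B))
  rw [e4, ← e1]
  calc Nat.card (B ⊔ V : Subgroup G) * Nat.card (B ⊓ V : Subgroup G)
      ≤ Nat.card A * Nat.card (fix (Additive V) (A.map π)) := Nat.mul_le_mul hle e3
    _ = _ := by rw [e2]; ring

end Cfsg.Agent.FFLemma
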