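import Mathlib

/-!
# Counting through idempotents

`card_le_of_idem` : if every simple subquotient of `Y` has more than `q` elements and every
idempotent `ε` satisfies `|εY| ≤ q |εZ|`, then `|Y| ≤ |Z|`.
-/

set_option autoImplicit false

namespace Cfsg.Agent.FFLemma

open Finset

variable {A : Type*} [Ring A]

/-- The image of multiplication by `ε`. -/
def img (ε : A) {M : Type*} [AddCommGroup M] [Module A M] (N : Submodule A M) : AddSubgroup M :=
  N.toAddSubgroup.map (DistribSMul.toAddMonoidHom M ε)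

/-- The annihilator of a section. -/
def ann {M : Type*} [AddCommGroup M] [Module A M] (N₁ N₂ : Submodule A M) : Submodule A A where
  carrier := {θ | ∀ m ∈ N₂, θ • m ∈ N₁}
  zero_mem' m _ := by simp
  add_mem' ha hb m hm := by rw [add_smul]; exact add_mem (ha m hm) (hb m hm)
  smul_mem' c θ hθ m hm := by rw [smul_eq_mul, mul_smul]; exact N₁.smul_mem c (hθ m hm)

theorem ann_mul_right {M : Type*} [AddCommGroup M] [Module A M] {N₁ N₂ : Submodule A M} {θ : A}
    (h : θ ∈ ann N₁ N₂) (c : A) : θ * c ∈ ann N₁ N₂ := fun m hm => by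
  rw [mul_smul]; exact h _ (N₂.smul_mem c hm)

theorem card_ker_mul_range {G H : Type*} [AddCommGroup G] [AddCommGroup H] (f : G →+ H) :
    Nat.card f.ker * Nat.card f.range = Nat.card G := by
  rw [← Nat.card_congr (QuotientAddGroup.quotientKerEquivRange f).toEquiv]
  exact AddSubgroup.card_mul_index f.ker

theorem card_map_mul {G H : Type*} [AddCommGroup G] [AddCommGroup H] (f : G →+ H)
    (N : AddSubgroup G) :
    Nat.card (N ⊓ f.ker : AddSubgroup G) * Nat.card (N.map f) = Nat.card N := by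
  have h := card_ker_mul_range (f.comp N.subtype)
  rwa [AddMonoidHom.range_comp, AddSubgroup.range_subtype,
    show (f.comp N.subtype).ker = (N ⊓ f.ker).addSubgroupOf N from by
      ext x; simp [AddSubgroup.mem_addSubgroupOf, AddMonoidHom.mem_ker],
    Nat.card_congr (AddSubgroup.addSubgroupOfEquivOfLe (inf_le_left : N ⊓ f.ker ≤ N)).toEquiv] at h

section modules

variable {M : Type*} [AddCommGroup M] [Module A M]

theorem one_notMem_ann {N₁ N₂ : Submodule A M} (h : N₁ < N₂) : (1 : A) ∉ ann N₁ N₂ := fun h1 =>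
  h.not_ge fun m hm => by simpa using h1 m hm

/-- A two-sided ideal not inside the annihilator of a simple section is comaximal with it. -/
theorem exists_one_sub_mem [Finite A] {N₁ N₂ : Submodule A M} (hc : N₁ ⋖ N₂) (J : Submodule A A)
    (hJr : ∀ j ∈ J, ∀ c, j * c ∈ J) (hJ : ¬ J ≤ ann N₁ N₂) :
    ∃ j ∈ J, 1 - j ∈ ann N₁ N₂ := by
  classical
  let ker : A → Submodule A A → Set M := fun θ _ => {m | m ∈ N₂ ∧ θ • m ∈ N₁}
  obtain ⟨θ, hθJ, hmax⟩ := (Set.toFinite {θ : A | 1 - θ ∈ J}).exists_maximalFor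
    (fun θ => ker θ J) _ ⟨1, by simp⟩
  refine ⟨1 - θ, hθJ, ?_⟩
  rw [sub_sub_cancel]
  intro s hs
  by_contra hθs
  obtain ⟨j₀, hj₀, hj₀'⟩ := SetLike.not_le_iff_exists.1 hJ
  -- `J (θ • s)` is the whole section
  let P : Submodule A M := N₁ ⊔ J.map ((LinearMap.id (R := A) (M := A)).smulRight (θ • s))
  have hle : P ≤ N₂ := sup_le hc.le (by
    rintro _ ⟨j, -, rfl⟩
    exact N₂.smul_mem j (N₂.smul_mem θ hs))
  have hP : P = N₂ := by
    refine (hc.eq_or_eq le_sup_left hle).resolve_left fun e => ?_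
    let K : Submodule A M :=
      { carrier := {m | m ∈ N₂ ∧ ∀ j ∈ J, j • m ∈ N₁}
        zero_mem' := ⟨zero_mem _, fun j _ => by simp⟩
        add_mem' := fun ha hb => ⟨add_mem ha.1 hb.1, fun j hj => by
          rw [smul_add]; exact add_mem (ha.2 j hj) (hb.2 j hj)⟩
        smul_mem' := fun c m hm => ⟨N₂.smul_mem c hm.1, fun j hj => by
          rw [← mul_smul]; exact hm.2 _ (hJr j hj c)⟩ }
    have hK1 : N₁ ≤ K := fun m hm => ⟨hc.le hm, fun j _ => N₁.smul_mem j hm⟩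
    have hsK : θ • s ∈ K := ⟨N₂.smul_mem θ hs, fun j hj => by
      rw [← e]; exact Submodule.mem_sup_right ⟨j, hj, rfl⟩⟩
    rcases hc.eq_or_eq hK1 (fun m hm => hm.1) with h | h
    · exact hθs (h ▸ hsK)
    · exact hj₀' fun m hm => (h.ge hm).2 j₀ hj₀
  obtain ⟨u, hu, _, ⟨j, hj, rfl⟩, hju⟩ := Submodule.mem_sup.1 (hP.ge hs)
  have hju' : u + j • θ • s = s := hju
  -- a larger kernel
  have hmem : 1 - (θ - θ * j * θ) ∈ J := by
    rw [show 1 - (θ - θ * j * θ) = (1 - θ) + θ * (j * θ) by rw [mul_assoc]; abel]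
    exact add_mem hθJ (J.smul_mem θ (hJr j hj θ))
  have hsub : ker θ J ⊆ ker (θ - θ * j * θ) J := fun m hm => ⟨hm.1, by
    rw [sub_smul, mul_smul]
    exact sub_mem hm.2 (N₁.smul_mem _ hm.2)⟩
  have hs' : s ∈ ker (θ - θ * j * θ) J := ⟨hs, by
    rw [sub_smul, mul_smul, mul_smul, ← smul_sub]
    refine N₁.smul_mem θ ?_
    rwa [show s - j • θ • s = u from (eq_sub_of_add_eq hju').symm]⟩
  exact hθs (hmax hmem hsub hs').2

/-- Two simple sections with the same annihilator have the same size. -/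
theorem card_section [Finite A] [Finite M] {N₁ N₂ : Submodule A M} (hc : N₁ ⋖ N₂)
    {I ℓ : Submodule A A} (hI : ann N₁ N₂ = I) (hℓ : I ⋖ ℓ) :
    Nat.card N₂ * Nat.card I = Nat.card N₁ * Nat.card ℓ := by
  obtain ⟨x, hx, hxI⟩ := SetLike.exists_of_lt hℓ.lt
  obtain ⟨s, hs, hxs⟩ : ∃ s ∈ N₂, x • s ∉ N₁ := by
    by_contra hno
    push Not at hno
    exact hxI (hI ▸ hno)
  let φ : A →ₗ[A] M ⧸ N₁ := N₁.mkQ.comp ((LinearMap.id (R := A) (M := A)).smulRight s)
  have hφ : ∀ a, φ a = N₁.mkQ (a • s) := fun _ => rfl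
  have hker : ℓ ⊓ LinearMap.ker φ = I := by
    have h1 : I ≤ ℓ ⊓ LinearMap.ker φ := fun a ha => ⟨hℓ.le ha, by
      rw [SetLike.mem_coe, LinearMap.mem_ker, hφ, Submodule.mkQ_apply, Submodule.Quotient.mk_eq_zero]
      exact (hI.ge ha : a ∈ ann N₁ N₂) s hs⟩
    rcases hℓ.eq_or_eq h1 inf_le_left with h | h
    · exact h
    · refine absurd ?_ hxs
      have := (h.ge hx).2
      rwa [SetLike.mem_coe, LinearMap.mem_ker, hφ, Submodule.mkQ_apply,
        Submodule.Quotient.mk_eq_zero] at this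
  have hmap : ℓ.map φ = N₂.map N₁.mkQ := by
    have h0 : ℓ.map φ ≤ N₂.map N₁.mkQ := by
      rintro _ ⟨a, -, rfl⟩
      exact ⟨a • s, N₂.smul_mem a hs, rfl⟩
    have h1 : (ℓ.map φ).comap N₁.mkQ ≤ N₂ := by
      refine (Submodule.comap_mono h0).trans ?_
      rw [Submodule.comap_map_mkQ]
      exact sup_le hc.le le_rfl
    rcases hc.eq_or_eq (Submodule.le_comap_mkQ N₁ _) h1 with h | h
    · refine absurd ?_ hxs
      rw [← h]
      exact ⟨x, hx, rfl⟩
    · rw [← h, Submodule.map_comap_eq_of_surjective (Submodule.mkQ_surjective N₁)]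
  have e1 := card_map_mul φ.toAddMonoidHom ℓ.toAddSubgroup
  have e2 := card_map_mul N₁.mkQ.toAddMonoidHom N₂.toAddSubgroup
  have k1 : ℓ.toAddSubgroup ⊓ φ.toAddMonoidHom.ker = I.toAddSubgroup := by
    rw [← hker]; rfl
  have k2 : N₂.toAddSubgroup ⊓ N₁.mkQ.toAddMonoidHom.ker = N₁.toAddSubgroup := by
    ext m
    constructor
    · intro hm
      exact (Submodule.Quotient.mk_eq_zero N₁).1 hm.2
    · intro hm
      exact ⟨hc.le hm, (Submodule.Quotient.mk_eq_zero N₁).2 hm⟩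
  have m1 : ℓ.toAddSubgroup.map φ.toAddMonoidHom = N₂.toAddSubgroup.map N₁.mkQ.toAddMonoidHom := by
    have := congrArg Submodule.toAddSubgroup hmap
    rwa [Submodule.map_toAddSubgroup, Submodule.map_toAddSubgroup] at this
  rw [k1, m1] at e1
  rw [k2] at e2
  have c1 : ∀ (R : Submodule A A), Nat.card R.toAddSubgroup = Nat.card R := fun _ => rfl
  have c2 : ∀ (R : Submodule A M), Nat.card R.toAddSubgroup = Nat.card R := fun _ => rfl
  rw [c1, c1] at e1
  rw [c2, c2] at e2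
  rw [← e1, ← e2]; ring

theorem card_img_of_mem [Finite M] {N₁ N₂ : Submodule A M} (hle : N₁ ≤ N₂) {ε : A}
    (hε : ε * ε = ε) (h : ε ∈ ann N₁ N₂) : img ε N₂ = img ε N₁ := by
  refine le_antisymm ?_ (AddSubgroup.map_mono hle)
  rintro _ ⟨m, hm, rfl⟩
  exact ⟨ε • m, h m hm, by simp [← mul_smul, hε]⟩

theorem card_img_of_one_sub_mem [Finite M] {N₁ N₂ : Submodule A M} (hle : N₁ ≤ N₂) {ε : A}
    (h : 1 - ε ∈ ann N₁ N₂) :
    Nat.card (img ε N₂) * Nat.card N₁ = Nat.card (img ε N₁) * Nat.card N₂ := by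
  set f := DistribSMul.toAddMonoidHom M ε
  have k : N₂.toAddSubgroup ⊓ f.ker = N₁.toAddSubgroup ⊓ f.ker := by
    refine le_antisymm (fun m hm => ⟨?_, hm.2⟩) (inf_le_inf_right _ hle)
    have h1 := h m hm.1
    rwa [sub_smul, one_smul, show ε • m = 0 from hm.2, sub_zero] at h1
  have e1 := card_map_mul f N₁.toAddSubgroup
  have e2 := card_map_mul f N₂.toAddSubgroup
  rw [k] at e2
  have c2 : ∀ (R : Submodule A M), Nat.card R.toAddSubgroup = Nat.card R := fun _ => rfl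
  rw [c2] at e1 e2
  show Nat.card (N₂.toAddSubgroup.map f) * _ = Nat.card (N₁.toAddSubgroup.map f) * _
  rw [← e1, ← e2]; ring

theorem exists_covBy_below [Finite M] {N : Submodule A M} (h : N ≠ ⊥) : ∃ N₁, N₁ ⋖ N := by
  obtain ⟨N₁, hN₁, hmax⟩ := (Set.toFinite {K : Submodule A M | K < N}).exists_maximalFor id _
    ⟨⊥, bot_lt_iff_ne_bot.2 h⟩
  exact ⟨N₁, hN₁, fun K h1 h2 => h1.not_ge (hmax h2 h1.le)⟩

/-- Multiplicities of the classes in a module. -/
theorem exists_mult [Finite A] [Finite M] (C : Finset (Submodule A A)) (ε : Submodule A A → A)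
    (e : Submodule A A → ℕ)
    (hC : ∀ N₁ N₂ : Submodule A M, N₁ ⋖ N₂ → ann N₁ N₂ ∈ C)
    (hcard : ∀ N₁ N₂ : Submodule A M, N₁ ⋖ N₂ → Nat.card N₂ = Nat.card N₁ * e (ann N₁ N₂))
    (hid : ∀ I ∈ C, ε I * ε I = ε I) (hone : ∀ I ∈ C, 1 - ε I ∈ I)
    (hzero : ∀ I ∈ C, ∀ I' ∈ C, I' ≠ I → ε I ∈ I') (N : Submodule A M) :
    ∃ m : Submodule A A → ℕ, (∀ I ∈ C, Nat.card (img (ε I) N) = e I ^ m I) ∧
      Nat.card N = ∏ I ∈ C, e I ^ m I ∧
      ∀ I ∈ C, m I ≠ 0 → ∃ N₁ N₂ : Submodule A M, N₁ ⋖ N₂ ∧ ann N₁ N₂ = I := by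
  classical
  induction N using WellFoundedLT.induction with
  | _ N ih =>
  by_cases hN : N = ⊥
  · subst hN
    refine ⟨fun _ => 0, fun I _ => ?_, by simp, fun _ _ h => absurd rfl h⟩
    rw [pow_zero, show img (ε I) (⊥ : Submodule A M) = ⊥ from ?_, AddSubgroup.card_bot]
    simp [img]
  obtain ⟨N₁, hN₁⟩ := exists_covBy_below hN
  obtain ⟨m, hm1, hm2, hm3⟩ := ih N₁ hN₁.lt
  have hI₀C := hC _ _ hN₁
  have hstep := hcard _ _ hN₁
  set I₀ := ann N₁ N with hI₀
  refine ⟨fun I => if I = I₀ then m I + 1 else m I, fun I hI => ?_, ?_, fun I hI hne => ?_⟩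
  · by_cases h : I = I₀
    · subst h
      show _ = e _ ^ (if _ = _ then _ else _)
      rw [if_pos rfl, pow_succ]
      have h1 := card_img_of_one_sub_mem hN₁.le (hone _ hI)
      rw [hm1 _ hI, hstep] at h1
      exact Nat.eq_of_mul_eq_mul_right (Nat.card_pos (α := N₁)) (h1.trans (by ring))
    · simp only [if_neg h]
      rw [card_img_of_mem hN₁.le (hid I hI) (hzero I hI I₀ hI₀C (Ne.symm h)), hm1 I hI]
  · rw [hstep, hm2, ← Finset.prod_ite_eq' C I₀ (fun _ => e I₀) |>.trans (if_pos hI₀C),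
      ← Finset.prod_mul_distrib]
    refine Finset.prod_congr rfl fun I _ => ?_
    by_cases h : I = I₀
    · subst h; simp [pow_succ]
    · simp [h]
  · by_cases h : I = I₀
    · exact ⟨N₁, N, hN₁, h.symm⟩
    · exact hm3 I hI (by simpa [h] using hne)

end modules

/-- Counting through idempotents. -/
theorem card_le_of_idem [Finite A] {Y Z : Type*} [AddCommGroup Y] [Module A Y] [Finite Y]
    [AddCommGroup Z] [Module A Z] [Finite Z] (q : ℕ)
    (hq : ∀ N₁ N₂ : Submodule A Y, N₁ ⋖ N₂ → Nat.card N₁ * q < Nat.card N₂)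
    (h : ∀ ε : A, ε * ε = ε →
      Nat.card (img ε (⊤ : Submodule A Y)) ≤ q * Nat.card (img ε (⊤ : Submodule A Z))) :
    Nat.card Y ≤ Nat.card Z := by
  classical
  have : Fintype A := Fintype.ofFinite A
  have : Finite (Submodule A A) := Finite.of_injective _ SetLike.coe_injective
  have : Fintype (Submodule A A) := Fintype.ofFinite _
  let Simple : Submodule A A → Prop := fun I =>
    (∃ N₁ N₂ : Submodule A Y, N₁ ⋖ N₂ ∧ ann N₁ N₂ = I) ∨
      ∃ N₁ N₂ : Submodule A Z, N₁ ⋖ N₂ ∧ ann N₁ N₂ = I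
  let C : Finset (Submodule A A) := Finset.univ.filter Simple
  have hCm : ∀ I, I ∈ C ↔ Simple I := fun I => by simp [C]
  have hright : ∀ I ∈ C, ∀ θ ∈ I, ∀ c, θ * c ∈ I := by
    intro I hI θ hθ c
    rcases (hCm I).1 hI with ⟨N₁, N₂, -, rfl⟩ | ⟨N₁, N₂, -, rfl⟩ <;> exact ann_mul_right hθ c
  have hone : ∀ I ∈ C, (1 : A) ∉ I := by
    intro I hI
    rcases (hCm I).1 hI with ⟨N₁, N₂, hc, rfl⟩ | ⟨N₁, N₂, hc, rfl⟩ <;> exact one_notMem_ann hc.lt
  have hco : ∀ I ∈ C, ∀ J : Submodule A A, (∀ j ∈ J, ∀ c, j * c ∈ J) → ¬ J ≤ I →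
      ∃ j ∈ J, 1 - j ∈ I := by
    intro I hI J hJ hJI
    rcases (hCm I).1 hI with ⟨N₁, N₂, hc, rfl⟩ | ⟨N₁, N₂, hc, rfl⟩ <;>
      exact exists_one_sub_mem hc J hJ hJI
  have hmaxI : ∀ I ∈ C, ∀ I' ∈ C, I' ≠ I → ¬ I' ≤ I := by
    intro I hI I' hI' hne hle
    obtain ⟨j, hj, hj'⟩ := hco I' hI' I (hright I hI) fun h => hne (le_antisymm hle h)
    exact hone I hI (by simpa using add_mem hj (hle hj'))
  have hsep : ∀ I ∈ C, ∀ s : Finset (Submodule A A), (∀ J ∈ s, J ∈ C ∧ J ≠ I) →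
      ∃ θ, 1 - θ ∈ I ∧ ∀ J ∈ s, θ ∈ J := by
    intro I hI s
    induction s using Finset.induction_on with
    | empty => exact fun _ => ⟨1, by simp, by simp⟩
    | @insert J s _ ih =>
      intro hs
      obtain ⟨θ, hθ, hθs⟩ := ih fun K hK => hs K (mem_insert_of_mem hK)
      obtain ⟨hJC, hJI⟩ := hs J (mem_insert_self J s)
      obtain ⟨j, hj, hj'⟩ := hco I hI J (hright J hJC) (hmaxI I hI J hJC hJI)
      refine ⟨θ * j, ?_, fun K hK => ?_⟩
      · rw [show 1 - θ * j = (1 - θ) * j + (1 - j) by noncomm_ring]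
        exact add_mem (hright I hI _ hθ _) hj'
      · rcases mem_insert.1 hK with rfl | hK
        · exact K.smul_mem θ hj
        · exact hright K (hs K (mem_insert_of_mem hK)).1 _ (hθs K hK) _
  have hidem : ∀ I ∈ C, ∃ ε : A, ε * ε = ε ∧ 1 - ε ∈ I ∧ ∀ J ∈ C, J ≠ I → ε ∈ J := by
    intro I hI
    obtain ⟨θ, hθ, hθs⟩ := hsep I hI (C.erase I) fun J hJ =>
      ⟨(mem_erase.1 hJ).2, (mem_erase.1 hJ).1⟩
    obtain ⟨k, hk, hkk⟩ : ∃ k, 0 < k ∧ θ ^ k * θ ^ k = θ ^ k := by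
      obtain ⟨i, j, hij, he⟩ := Finite.exists_ne_map_eq_of_infinite fun n : ℕ => θ ^ n
      wlog hlt : i < j generalizing i j
      · exact this j i hij.symm he.symm (by omega)
      have key : ∀ t m, i ≤ m → θ ^ (m + t * (j - i)) = θ ^ m := by
        intro t
        induction t with
        | zero => simp
        | succ t iht =>
          intro m hm
          rw [show m + (t + 1) * (j - i) = (m + (j - i)) + t * (j - i) by ring,
            iht _ (by omega), show m + (j - i) = j + (m - i) by omega, pow_add,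
            show θ ^ j = θ ^ i from he.symm, ← pow_add, show i + (m - i) = m by omega]
      refine ⟨(i + 1) * (j - i), Nat.mul_pos (by omega) (by omega), ?_⟩
      rw [← pow_add]
      exact key (i + 1) _ (le_trans (by omega) (Nat.le_mul_of_pos_right _ (by omega)))
    refine ⟨θ ^ k, hkk, ?_, fun J hJ hJI => ?_⟩
    · clear hkk hk
      induction k with
      | zero => simp
      | succ k ihk =>
        rw [pow_succ, show 1 - θ ^ k * θ = (1 - θ ^ k) * θ + (1 - θ) by noncomm_ring]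
        exact add_mem (hright I hI _ ihk _) hθ
    · obtain ⟨k, rfl⟩ : ∃ n, k = n + 1 := ⟨k - 1, by omega⟩
      rw [pow_succ]
      exact J.smul_mem _ (hθs J (mem_erase.2 ⟨hJI, hJ⟩))
  choose! ε hε using hidem
  have hℓ : ∀ I ∈ C, ∃ ℓ : Submodule A A, I ⋖ ℓ := fun I hI => by
    obtain ⟨ℓ, h1, h2⟩ := (Set.toFinite {K : Submodule A A | I < K}).exists_minimalFor id _
      ⟨⊤, show I < ⊤ from lt_top_iff_ne_top.2 fun e => hone I hI (by rw [e]; trivial)⟩
    exact ⟨ℓ, h1, fun K hK hK' => hK'.not_ge (h2 hK hK'.le)⟩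
  choose! ℓ hℓ using hℓ
  let e : Submodule A A → ℕ := fun I => (I.toAddSubgroup).relIndex (ℓ I).toAddSubgroup
  have he : ∀ I ∈ C, Nat.card (ℓ I) = Nat.card I * e I := by
    intro I hI
    have h1 := AddSubgroup.card_mul_index (I.toAddSubgroup.addSubgroupOf (ℓ I).toAddSubgroup)
    rw [Nat.card_congr (AddSubgroup.addSubgroupOfEquivOfLe
      (show I.toAddSubgroup ≤ (ℓ I).toAddSubgroup from (hℓ I hI).le)).toEquiv] at h1
    exact h1.symm
  have hYc : ∀ N₁ N₂ : Submodule A Y, N₁ ⋖ N₂ →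
      Nat.card N₂ = Nat.card N₁ * e (ann N₁ N₂) := fun N₁ N₂ hc => by
    have hI := (hCm _).2 (Or.inl ⟨N₁, N₂, hc, rfl⟩)
    have h1 := card_section hc rfl (hℓ _ hI)
    rw [he _ hI, mul_left_comm, mul_comm] at h1
    exact Nat.eq_of_mul_eq_mul_left (Nat.card_pos (α := ann N₁ N₂)) h1
  have hZc : ∀ N₁ N₂ : Submodule A Z, N₁ ⋖ N₂ →
      Nat.card N₂ = Nat.card N₁ * e (ann N₁ N₂) := fun N₁ N₂ hc => by
    have hI := (hCm _).2 (Or.inr ⟨N₁, N₂, hc, rfl⟩)
    have h1 := card_section hc rfl (hℓ _ hI)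
    rw [he _ hI, mul_left_comm, mul_comm] at h1
    exact Nat.eq_of_mul_eq_mul_left (Nat.card_pos (α := ann N₁ N₂)) h1
  obtain ⟨mY, hY1, hY2, hY3⟩ := exists_mult C ε e
    (fun N₁ N₂ hc => (hCm _).2 (Or.inl ⟨N₁, N₂, hc, rfl⟩)) hYc (fun I hI => (hε I hI).1)
    (fun I hI => (hε I hI).2.1) (fun I hI J hJ hne => (hε I hI).2.2 J hJ hne) (⊤ : Submodule A Y)
  obtain ⟨mZ, hZ1, hZ2, -⟩ := exists_mult C ε e
    (fun N₁ N₂ hc => (hCm _).2 (Or.inr ⟨N₁, N₂, hc, rfl⟩)) hZc (fun I hI => (hε I hI).1)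
    (fun I hI => (hε I hI).2.1) (fun I hI J hJ hne => (hε I hI).2.2 J hJ hne) (⊤ : Submodule A Z)
  have hle : ∀ I ∈ C, e I ^ mY I ≤ e I ^ mZ I := by
    intro I hI
    by_cases h0 : mY I = 0
    · rw [h0, pow_zero]
      rw [← hZ1 I hI]
      exact Nat.card_pos
    obtain ⟨N₁, N₂, hc, rfl⟩ := hY3 I hI h0
    have hqe : q < e (ann N₁ N₂) := by
      have := hq N₁ N₂ hc
      rw [hYc N₁ N₂ hc] at this
      exact Nat.lt_of_mul_lt_mul_left this
    have h1 := h _ (hε _ hI).1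
    rw [hY1 _ hI, hZ1 _ hI] at h1
    refine Nat.pow_le_pow_right (by omega) ?_
    by_contra hlt
    push Not at hlt
    have h2 : e (ann N₁ N₂) ^ (mZ (ann N₁ N₂) + 1) ≤ e (ann N₁ N₂) ^ mY (ann N₁ N₂) :=
      Nat.pow_le_pow_right (by omega) hlt
    rw [pow_succ'] at h2
    exact absurd (h2.trans h1) (not_le.2 (Nat.mul_lt_mul_of_pos_right hqe (pow_pos (by omega) _)))
  have c1 : Nat.card (⊤ : Submodule A Y) = Nat.card Y := Nat.card_congr Submodule.topEquiv.toEquiv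
  have c2 : Nat.card (⊤ : Submodule A Z) = Nat.card Z := Nat.card_congr Submodule.topEquiv.toEquiv
  rw [← c1, ← c2, hY2, hZ2]
  exact Finset.prod_le_prod' hle

end Cfsg.Agent.FFLemma
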