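import Cfsg.Agent.PGV.Replacement

/-!
# Local lemmas for the induction

Minimal offenders, the subgroups they generate, and Sylow conditions relative to a subgroup.
-/

set_option autoImplicit false
set_option linter.unusedSectionVars false

namespace Cfsg.Agent.FFLemma

open Subgroup Cfsg.Agent.PGV

section sylow

variable {Γ : Type*} [Group Γ] [Finite Γ]

/-- Every `2`-subgroup of `H` is conjugate in `H` into `T`. -/
def Syl (H T : Subgroup Γ) : Prop :=
  ∀ X ≤ H, IsPGroup 2 X → ∃ p ∈ H, ∀ x ∈ X, p * x * p⁻¹ ∈ T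

theorem exists_sylow_conj (H : Subgroup Γ) (Q : Sylow 2 H) {X : Subgroup Γ} (hX : X ≤ H)
    (hX2 : IsPGroup 2 X) :
    ∃ p ∈ H, ∀ x ∈ X, p * x * p⁻¹ ∈ (Q : Subgroup H).map H.subtype := by
  haveI : Fact (Nat.Prime 2) := ⟨Nat.prime_two⟩
  obtain ⟨Q', hQ'⟩ := (IsPGroup.comap_subtype (K := H) hX2).exists_le_sylow
  obtain ⟨d, hd⟩ := MulAction.exists_smul_eq H Q' Q
  refine ⟨d, d.2, fun x hx => ⟨d * ⟨x, hX hx⟩ * d⁻¹, ?_, rfl⟩⟩
  show _ ∈ (Q : Subgroup H)
  rw [← hd, Sylow.coe_subgroup_smul]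
  exact ⟨⟨x, hX hx⟩, hQ' hx, rfl⟩

/-- A maximal `2`-subgroup is conjugate to everything. -/
theorem syl_of_max {H T : Subgroup Γ} (hTH : T ≤ H) (hT : IsPGroup 2 T)
    (hmax : ∀ Q ≤ H, IsPGroup 2 Q → T ≤ Q → Q ≤ T) : Syl H T := by
  haveI : Fact (Nat.Prime 2) := ⟨Nat.prime_two⟩
  intro X hX hX2
  obtain ⟨Q, hQ⟩ := (IsPGroup.comap_subtype (K := H) hT).exists_le_sylow
  obtain ⟨p, hp, h⟩ := exists_sylow_conj H Q hX hX2
  refine ⟨p, hp, fun x hx => hmax _ (map_subtype_le _) (Q.2.map _) ?_ (h x hx)⟩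
  intro t ht
  exact ⟨⟨t, hTH ht⟩, hQ ht, rfl⟩

/-- A Sylow condition restricts to intermediate subgroups. -/
theorem Syl.mono {H T K : Subgroup Γ} (h : Syl H T) (hT : IsPGroup 2 T) (hTK : T ≤ K)
    (hKH : K ≤ H) : Syl K T := by
  refine syl_of_max hTK hT fun Q hQ hQ2 hTQ => le_of_eq ?_
  obtain ⟨p, -, hpQ⟩ := h Q (hQ.trans hKH) hQ2
  refine (Subgroup.eq_of_le_of_card_ge hTQ ?_).symm
  refine Nat.card_le_card_of_injective (fun q : Q => (⟨p * q * p⁻¹, hpQ q q.2⟩ : T)) ?_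
  intro a b e
  exact Subtype.ext (mul_left_cancel (mul_right_cancel (congrArg Subtype.val e)))

theorem syl_top (S : Sylow 2 Γ) : Syl (⊤ : Subgroup Γ) (S : Subgroup Γ) :=
  syl_of_max le_top S.2 fun _ _ hQ hSQ => (S.3 hQ hSQ).le

/-- The intersection with an invariant subgroup is again a Sylow subgroup. -/
theorem Syl.inter {H T K : Subgroup Γ} (h : Syl H T) (hT : IsPGroup 2 T) (hKH : K ≤ H)
    (hn : ∀ p ∈ H, ∀ k ∈ K, p * k * p⁻¹ ∈ K) : Syl K (T ⊓ K) := by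
  refine syl_of_max inf_le_right (hT.to_le inf_le_left) fun Q hQ hQ2 hTQ => le_of_eq ?_
  obtain ⟨p, hp, hpQ⟩ := h Q (hQ.trans hKH) hQ2
  refine (Subgroup.eq_of_le_of_card_ge hTQ ?_).symm
  refine Nat.card_le_card_of_injective
    (fun q : Q => (⟨p * q * p⁻¹, hpQ q q.2, hn p hp q (hQ q.2)⟩ : (T ⊓ K : Subgroup Γ))) ?_
  intro a b e
  exact Subtype.ext (mul_left_cancel (mul_right_cancel (congrArg Subtype.val e)))

/-- The Frattini argument. -/
theorem frattini {H T K : Subgroup Γ} (h : Syl K T) (hTK : T ≤ K) (hT : IsPGroup 2 T)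
    (hn : ∀ p ∈ H, ∀ k ∈ K, p * k * p⁻¹ ∈ K) {r : Γ} (hr : r ∈ H) :
    ∃ k ∈ K, ∀ t ∈ T, (k * r) * t * (k * r)⁻¹ ∈ T := by
  obtain ⟨k, hk, hkX⟩ := h (T.map (MulAut.conj r).toMonoidHom)
    (by rintro _ ⟨t, ht, rfl⟩; exact hn r hr t (hTK ht)) (hT.map _)
  refine ⟨k, hk, fun t ht => ?_⟩
  have := hkX _ (mem_map_of_mem _ ht)
  rwa [show (MulAut.conj r).toMonoidHom t = r * t * r⁻¹ from rfl,
    show k * (r * t * r⁻¹) * k⁻¹ = (k * r) * t * (k * r)⁻¹ by group] at this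

/-- A proper `2`-subgroup of a `2`-group is properly normalised. -/
theorem exists_normalizing {T Q : Subgroup Γ} (hQ : IsPGroup 2 Q) (hTQ : T ≤ Q)
    (hne : ¬ Q ≤ T) : ∃ y ∈ Q, y ∉ T ∧ ∀ t ∈ T, y * t * y⁻¹ ∈ T := by
  haveI : Fact (Nat.Prime 2) := ⟨Nat.prime_two⟩
  haveI := hQ.isNilpotent
  obtain ⟨y, hy, hyT⟩ := SetLike.exists_of_lt
    (Group.normalizerCondition_of_isNilpotent (T.subgroupOf Q)
      (lt_top_iff_ne_top.2 fun e => hne (subgroupOf_eq_top.1 e)))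
  refine ⟨y, y.2, hyT, fun t ht => ?_⟩
  exact (mem_normalizer_iff.1 hy ⟨t, hTQ ht⟩).1 ht

theorem card_lt_of_lt {H K : Subgroup Γ} (h : H < K) : Nat.card H < Nat.card K :=
  (Subgroup.card_le_of_le h.le).lt_of_ne fun e => h.ne (Subgroup.eq_of_le_of_card_ge h.le e.ge)

end sylow

section mem

variable {Γ : Type*} [Group Γ] [Finite Γ] {V : Type*} [AddCommGroup V] [Finite V]
  [DistribMulAction Γ V]

/-- The conjugate of a subgroup. -/
abbrev cg (g : Γ) (H : Subgroup Γ) : Subgroup Γ := H.map (MulAut.conj g).toMonoidHom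

theorem mem_cg {g x : Γ} {H : Subgroup Γ} : x ∈ cg g H ↔ g⁻¹ * x * g ∈ H := by
  constructor
  · rintro ⟨h, hh, rfl⟩
    simpa [mul_assoc] using hh
  · exact fun h => ⟨_, h, by simp [mul_assoc]⟩

theorem card_cg (g : Γ) (H : Subgroup Γ) : Nat.card (cg g H) = Nat.card H :=
  (Nat.card_congr (H.equivMapOfInjective _ (MulAut.conj g).injective).toEquiv).symm

theorem fix_cg (g : Γ) (H : Subgroup Γ) :
    fix V (cg g H) = (fix V H).map (DistribSMul.toAddMonoidHom V g) := by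
  ext v
  constructor
  · intro hv
    refine ⟨g⁻¹ • v, fun h hh => ?_, smul_inv_smul g v⟩
    have h1 := hv (g * h * g⁻¹) ⟨h, hh, rfl⟩
    rw [mul_smul, mul_smul] at h1
    rw [← inv_smul_smul g (h • g⁻¹ • v), h1]
  · rintro ⟨w, hw, rfl⟩ x hx
    have h1 := hw _ (mem_cg.1 hx)
    rw [mul_smul, mul_smul, inv_smul_eq_iff] at h1
    exact h1

/-- A minimal offender. -/
structure Mem (V : Type*) [AddCommGroup V] [DistribMulAction Γ V] (E : Subgroup Γ) : Prop where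
  comm : ∀ a ∈ E, ∀ b ∈ E, Commute a b
  sq : ∀ a ∈ E, a ^ 2 = 1
  ne : E ≠ ⊥
  off : Nat.card V ≤ Nat.card E * Nat.card (fix V E)
  small : ∀ B < E, B ≠ ⊥ → Nat.card B * Nat.card (fix V B) < Nat.card V

theorem Mem.isPGroup {E : Subgroup Γ} (h : Mem V E) : IsPGroup 2 E := fun a =>
  ⟨1, Subtype.ext (by simpa using h.sq a a.2)⟩

theorem Mem.small' {E : Subgroup Γ} (h : Mem V E) (B : Subgroup Γ) (hB : B < E) :
    Nat.card B * Nat.card (fix V B) ≤ Nat.card V := by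
  by_cases hb : B = ⊥
  · subst hb
    rw [Subgroup.card_bot, one_mul]
    exact Nat.card_le_card_of_injective _ Subtype.coe_injective
  · exact (h.small B hB hb).le

theorem Mem.quad [FaithfulSMul Γ V] {E : Subgroup Γ} (h : Mem V E) (two : ∀ v : V, v + v = 0) :
    ∀ a ∈ E, ∀ b ∈ E, ∀ v : V, b • (a • v - v) = a • v - v := by
  haveI : Fact (Nat.Prime 2) := ⟨Nat.prime_two⟩
  have hbest : Best V E := fun B hB => by
    rcases hB.eq_or_lt with rfl | hlt
    · exact le_rfl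
    · exact (h.small' B hlt).trans h.off
  obtain ⟨Q, hQ, hQne, hQB, hq⟩ := replacement (p := 2) (fun v => by rw [two_nsmul]; exact two v)
    h.comm h.sq h.ne hbest
  have hQE : Q = E := by
    refine (hQ.eq_or_lt).resolve_right fun hlt => ?_
    have h1 := hQB ⊥ bot_le
    rw [Subgroup.card_bot, one_mul] at h1
    have htop : fix V (⊥ : Subgroup Γ) = ⊤ := top_le_iff.1 fun v _ g hg => by
      rw [Subgroup.mem_bot.1 hg, one_smul]
    rw [htop, AddSubgroup.card_top] at h1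
    exact (h.small Q hlt hQne).not_ge h1
  exact fun a ha b hb v => hq b (hQE.ge hb) a ha v

theorem Mem.conj {E : Subgroup Γ} (h : Mem V E) (g : Γ) : Mem V (cg g E) := by
  have hc : ∀ H : Subgroup Γ, Nat.card (fix V (cg g H)) = Nat.card (fix V H) := fun H => by
    rw [fix_cg]
    exact (Nat.card_congr (AddSubgroup.equivMapOfInjective _ _ (MulAction.injective g)).toEquiv).symm
  have hinj : Function.Injective (MulAut.conj g).toMonoidHom := (MulAut.conj g).injective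
  refine ⟨?_, ?_, fun e => h.ne (by rwa [map_eq_bot_iff_of_injective _ hinj] at e), ?_, ?_⟩
  · rintro _ ⟨a, ha, rfl⟩ _ ⟨b, hb, rfl⟩
    exact (h.comm a ha b hb).map _
  · rintro _ ⟨a, ha, rfl⟩
    rw [← map_pow, h.sq a ha, map_one]
  · rw [card_cg, hc]
    exact h.off
  · intro B hB hBne
    obtain ⟨B', rfl⟩ : ∃ B', B = cg g B' := ⟨B.comap (MulAut.conj g).toMonoidHom,
      (map_comap_eq_self_of_surjective (MulAut.conj g).surjective B).symm⟩
    rw [card_cg, hc]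
    exact h.small B' ((map_lt_map_iff_of_injective hinj).1 hB)
      (fun e => hBne (by rw [e, cg, Subgroup.map_bot]))

/-- There is a minimal offender below every offender. -/
theorem exists_mem {E : Subgroup Γ} (hab : ∀ a ∈ E, ∀ b ∈ E, Commute a b)
    (hsq : ∀ a ∈ E, a ^ 2 = 1) (hne : E ≠ ⊥)
    (hoff : Nat.card V ≤ Nat.card E * Nat.card (fix V E)) : ∃ E' ≤ E, Mem V E' := by
  classical
  haveI : Finite (Subgroup Γ) := Finite.of_injective _ SetLike.coe_injective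
  obtain ⟨E', ⟨h1, h2, h3⟩, hmin⟩ := (Set.toFinite {B : Subgroup Γ | B ≤ E ∧ B ≠ ⊥ ∧
    Nat.card V ≤ Nat.card B * Nat.card (fix V B)}).exists_minimalFor id _ ⟨E, le_rfl, hne, hoff⟩
  refine ⟨E', h1, fun a ha b hb => hab a (h1 ha) b (h1 hb), fun a ha => hsq a (h1 ha), h2, h3,
    fun B hB hBne => ?_⟩
  by_contra hno
  push Not at hno
  exact hB.not_ge (hmin ⟨hB.le.trans h1, hBne, hno⟩ hB.le)

/-- The subgroup generated by the minimal offenders in `X` with the property `Q`. -/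
def memJoin (V : Type*) [AddCommGroup V] [DistribMulAction Γ V] (Q : Subgroup Γ → Prop)
    (X : Subgroup Γ) : Subgroup Γ :=
  closure {x | ∃ E, Mem V E ∧ Q E ∧ E ≤ X ∧ x ∈ E}

theorem memJoin_le {Q : Subgroup Γ → Prop} {X : Subgroup Γ} : memJoin V Q X ≤ X :=
  (closure_le X).2 fun _ ⟨_, _, _, hE, hx⟩ => hE hx

theorem le_memJoin {Q : Subgroup Γ → Prop} {X E : Subgroup Γ} (h : Mem V E) (hQ : Q E)
    (hE : E ≤ X) : E ≤ memJoin V Q X := fun _ hx => subset_closure ⟨E, h, hQ, hE, hx⟩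

theorem conj_memJoin {Q : Subgroup Γ → Prop} {X : Subgroup Γ} {g : Γ}
    (hQ : ∀ E, Q E → Q (cg g E)) (hg : ∀ x ∈ X, g * x * g⁻¹ ∈ X) {x : Γ}
    (hx : x ∈ memJoin V Q X) : g * x * g⁻¹ ∈ memJoin V Q X := by
  have : memJoin V Q X ≤ (memJoin V Q X).comap (MulAut.conj g).toMonoidHom := by
    refine (closure_le _).2 ?_
    rintro y ⟨E, hE, hQE, hEX, hy⟩
    exact le_memJoin (hE.conj g) (hQ E hQE)
      (by rintro _ ⟨e, he, rfl⟩; exact hg e (hEX he)) (mem_map_of_mem _ hy)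
  exact this hx

theorem mem_normalizer_of_conj {H : Subgroup Γ} {g : Γ} (h : ∀ x ∈ H, g * x * g⁻¹ ∈ H) :
    g ∈ normalizer (H : Set Γ) := by
  refine Subgroup.le_normalizer_iff.2 ?_ (mem_zpowers g)
  intro l hl x hx
  obtain ⟨n, rfl⟩ := (isOfFinOrder_of_finite g).mem_powers_iff_mem_zpowers.2 hl
  induction n with
  | zero => simpa using hx
  | succ n ih =>
    have := h _ (ih (pow_mem (mem_zpowers g) n))
    simpa [pow_succ', mul_assoc] using this

end mem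

end Cfsg.Agent.FFLemma
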