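import Cfsg.Agent.FFLemma.Local
import Cfsg.Agent.FFLemma.Conf
import Cfsg.Agent.Core.PCore

/-!
# No offenders in groups without sections `Sym(3)`

`no_offender`: a finite group with trivial `2`-core and no section `Sym(3)`, acting faithfully on
an elementary abelian `2`-group, has no nontrivial elementary abelian offender.
-/

set_option autoImplicit false
set_option linter.unusedSectionVars false

namespace Cfsg.Agent.FFLemma

open Subgroup Cfsg.Agent.PGV

universe u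

section step

variable {Γ : Type u} [Group Γ] [Finite Γ] {V : Type u} [AddCommGroup V] [Finite V]
  [DistribMulAction Γ V]

/-- The statement at a given size. -/
def Holds (n : ℕ) : Prop :=
  ∀ (Γ : Type u) [Group Γ] [Finite Γ] (V : Type u) [AddCommGroup V] [Finite V]
    [DistribMulAction Γ V] [FaithfulSMul Γ V], Nat.card Γ + Nat.card V ≤ n →
    (∀ v : V, v + v = 0) → pCore 2 Γ = ⊥ → ¬ Cfsg.Involves (Equiv.Perm (Fin 3)) Γ →
    ∀ E : Subgroup Γ, (∀ a ∈ E, ∀ b ∈ E, Commute a b) → (∀ a ∈ E, a ^ 2 = 1) → E ≠ ⊥ →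
      Nat.card E * Nat.card (fix V E) < Nat.card V

variable [FaithfulSMul Γ V]

theorem smul_mem_orb' {H : Subgroup Γ} {A : AddSubgroup V} {g : Γ}
    (hg : g ∈ normalizer (H : Set Γ)) (hA : ∀ a ∈ A, g • a ∈ orb H A) {v : V}
    (hv : v ∈ orb H A) : g • v ∈ orb H A := by
  refine AddSubgroup.closure_induction (p := fun u _ => g • u ∈ orb H A) ?_ (by simp)
    (fun x y _ _ hx hy => by rw [smul_add]; exact add_mem hx hy)
    (fun x _ hx => by rw [smul_neg]; exact neg_mem hx) hv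
  rintro u ⟨p, hp, a, ha, rfl⟩
  have : g • p • a = (g * p * g⁻¹) • g • a := by
    rw [← mul_smul, ← mul_smul, inv_mul_cancel_right]
  rw [this]
  exact smul_mem_orb ((mem_normalizer_iff.1 hg p).1 hp) (hA a ha)

/-- The fixer of the orbit of `A` is invariant. -/
theorem conj_fixer_orb {H : Subgroup Γ} {A : AddSubgroup V} :
    ∀ p ∈ H, ∀ k ∈ fixer Γ (orb H A) ⊓ H, p * k * p⁻¹ ∈ fixer Γ (orb H A) ⊓ H := by
  intro p hp k hk
  refine ⟨mem_fixer.2 fun v hv => ?_, mul_mem (mul_mem hp hk.2) (H.inv_mem hp)⟩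
  rw [mul_smul, mul_smul, mem_fixer.1 hk.1 _ (smul_mem_orb (inv_mem hp) hv), smul_inv_smul]

theorem mem_fixer_orb {H : Subgroup Γ} {A : AddSubgroup V} {x : Γ}
    (h : ∀ p ∈ H, ∀ a ∈ A, x • p • a = p • a) : x ∈ fixer Γ (orb H A) := by
  refine mem_fixer.2 fun v hv => ?_
  refine AddSubgroup.closure_induction (p := fun u _ => x • u = u) ?_ (smul_zero _)
    (fun a b _ _ ha hb => by rw [smul_add, ha, hb]) (fun a _ ha => by rw [smul_neg, ha]) hv
  rintro u ⟨p, hp, a, ha, rfl⟩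
  exact h p hp a ha

set_option maxHeartbeats 1600000 in
/-- The inductive step. -/
theorem step (n : ℕ) (IH : ∀ m < n, Holds.{u} m) : Holds.{u} n := by
  intro Γ _ _ V _ _ _ _ hn two hO s3 E₀ hab hsq hne
  classical
  haveI : Fact (Nat.Prime 2) := ⟨Nat.prime_two⟩
  haveI : Finite (Subgroup Γ) := Finite.of_injective _ SetLike.coe_injective
  by_contra hlt
  push Not at hlt
  obtain ⟨E₁, hE₁₀, hE₁⟩ := exists_mem hab hsq hne hlt
  obtain ⟨S, hS⟩ := hE₁.isPGroup.exists_le_sylow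
  obtain ⟨J, hJ⟩ : ∃ J, J = memJoin V (fun _ => True) (S : Subgroup Γ) := ⟨_, rfl⟩
  have hJS : J ≤ S := hJ ▸ memJoin_le
  have hJne : J ≠ ⊥ := fun e => hE₁.ne (eq_bot_iff.2 (e ▸ hJ ▸ le_memJoin hE₁ trivial hS))
  obtain ⟨N, hN⟩ : ∃ N, N = normalizer (J : Set Γ) := ⟨_, rfl⟩
  have hNtop : N ≠ ⊤ := by
    intro e
    rw [hN, normalizer_eq_top_iff] at e
    exact hJne (eq_bot_iff.2 (hO ▸ Core.le_pCore (S.2.to_le hJS)))
  have hSN : (S : Subgroup Γ) ≤ N := fun s hs => hN ▸ mem_normalizer_of_conj fun x hx => by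
    rw [hJ] at hx ⊢
    exact conj_memJoin (fun _ _ => trivial) (fun y hy => mul_mem (mul_mem hs hy) (inv_mem hs)) hx
  -- the piece
  obtain ⟨A, hA⟩ : ∃ A, A = orb N (fix V (S : Subgroup Γ)) := ⟨_, rfl⟩
  have hNA : N ≤ stab Γ A := fun p hp a ha => hA ▸ smul_mem_orb hp (hA ▸ ha)
  have hJA : ∀ x ∈ J, ∀ a ∈ A, x • a = a := by
    intro x hx a ha
    rw [hA] at ha
    refine mem_fixer.1 (mem_fixer_orb (H := N) fun p hp b hb => ?_) a ha
    have h1 : p⁻¹ * x * p ∈ J := by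
      have := ((mem_normalizer_iff.1 (hN ▸ inv_mem hp : p⁻¹ ∈ normalizer (J : Set Γ))) x).1 hx
      rwa [inv_inv] at this
    calc x • p • b = p • ((p⁻¹ * x * p) • b) := by
          rw [← mul_smul, ← mul_smul]; congr 1; group
      _ = p • b := by rw [hb _ (hJS h1)]
  obtain ⟨a₀, ha₀, ha₀'⟩ : ∃ a ∈ A, a ≠ (0 : V) := by
    obtain ⟨e, he, he1⟩ := (Subgroup.ne_bot_iff_exists_ne_one.1 hE₁.ne).choose_spec
      |> fun h => (⟨_, (Subgroup.ne_bot_iff_exists_ne_one.1 hE₁.ne).choose.2,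
        fun e => h (Subtype.ext e)⟩ : ∃ e, e ∈ E₁ ∧ e ≠ 1)
    have hV : (2 : ℕ) ∣ Nat.card V := by
      haveI : Nontrivial V := by
        by_contra hh
        rw [not_nontrivial_iff_subsingleton] at hh
        exact he1 (FaithfulSMul.eq_of_smul_eq_smul (α := V) fun v => Subsingleton.elim _ _)
      obtain ⟨v, hv⟩ := exists_ne (0 : V)
      have h := addOrderOf_dvd_natCard v
      rwa [addOrderOf_eq_prime (by rw [two_nsmul]; exact two v) hv] at h
    have h0 : (0 : V) ∈ MulAction.fixedPoints (S : Subgroup Γ) V := fun s => smul_zero _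
    obtain ⟨b, hb, hb0⟩ := S.2.exists_fixed_point_of_prime_dvd_card_of_fixed_point V hV h0
    exact ⟨b, hA ▸ mem_orb (fun s hs => hb ⟨s, hs⟩), hb0.symm⟩
  -- offenders on the piece
  have hind : ∀ X ≤ (S : Subgroup Γ), (∀ x ∈ X, ∀ y ∈ X, ∀ a ∈ A, x • y • a = y • x • a) →
      (∀ x ∈ X, ∀ a ∈ A, x • x • a = a) → (∃ x ∈ X, ∃ a ∈ A, x • a ≠ a) →
      (fixer Γ A).relIndex X * Nat.card (A ⊓ fix V X : AddSubgroup V) < Nat.card A := by
    intro X hX hcomm hinv hmove
    let ρ₀ : N →* AddMonoid.End A :=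
      { toFun := fun p =>
          { toFun := fun a => ⟨(p : Γ) • (a : V), hNA p.2 a a.2⟩
            map_zero' := Subtype.ext (smul_zero _)
            map_add' := fun a b => Subtype.ext (smul_add _ _ _) }
        map_one' := AddMonoidHom.ext fun a => Subtype.ext (one_smul _ _)
        map_mul' := fun p q => AddMonoidHom.ext fun a => Subtype.ext (mul_smul _ _ _) }
    let ρ : N →* (AddMonoid.End A)ˣ := ρ₀.toHomUnits
    have hρ : ∀ (p : N) (a : A), ((ρ p • a : A) : V) = (p : Γ) • (a : V) := fun _ _ => rfl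
    haveI : Finite (AddMonoid.End A) := Finite.of_injective _ DFunLike.coe_injective
    haveI : FaithfulSMul ρ.range A := ⟨fun {g h} e =>
      Subtype.ext (Units.ext (AddMonoidHom.ext fun a => e a))⟩
    have hs3' : ¬ Cfsg.Involves (Equiv.Perm (Fin 3)) ρ.range := fun h =>
      s3 (QdFree.involves_of_sec h (f := ρ.rangeRestrict) ρ.rangeRestrict_surjective)
    have hO' : pCore 2 ρ.range = ⊥ := by
      rw [eq_bot_iff]
      intro o ho
      let SN : Sylow 2 N := S.subtype hSN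
      have hle := Core.pCore_le_sylow (SN.mapSurjective ρ.rangeRestrict_surjective) (p := 2)
      rw [Subgroup.mem_bot]
      refine FaithfulSMul.eq_of_smul_eq_smul (α := A) fun a => ?_
      rw [one_smul]
      obtain ⟨av, hav⟩ := a
      have key : ∀ v ∈ A, ((o : (AddMonoid.End A)ˣ) : AddMonoid.End A) =
          ((o : (AddMonoid.End A)ˣ) : AddMonoid.End A) := fun _ _ => rfl
      have hall : ∀ v, ∀ hv : v ∈ orb N (fix V (S : Subgroup Γ)),
          ((o • (⟨v, hA ▸ hv⟩ : A) : A) : V) = v := by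
        intro v hv
        refine AddSubgroup.closure_induction
          (p := fun v hv => ((o • (⟨v, hA ▸ hv⟩ : A) : A) : V) = v) ?_ ?_ ?_ ?_ hv
        · rintro u ⟨p, hp, b, hb, rfl⟩
          obtain ⟨po, hpo, hpe⟩ : ∃ po ∈ pCore 2 ρ.range,
              po = ρ.rangeRestrict ⟨p, hp⟩⁻¹ * o * ρ.rangeRestrict ⟨p, hp⟩ := by
            refine ⟨_, ?_, rfl⟩
            have := (inferInstance : (pCore 2 ρ.range).Normal).conj_mem o ho
              (ρ.rangeRestrict ⟨p, hp⟩⁻¹)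
            rwa [← map_inv, inv_inv] at this
          obtain ⟨s, hs, hse⟩ := hle hpo
          have ho_eq : o = ρ.rangeRestrict (⟨p, hp⟩ * s * ⟨p, hp⟩⁻¹) := by
            rw [map_mul, map_mul, hse, hpe, map_inv]
            group
          rw [ho_eq]
          show (((⟨p, hp⟩ * s * ⟨p, hp⟩⁻¹ : N)) : Γ) • p • b = p • b
          rw [Subgroup.coe_mul, Subgroup.coe_mul, Subgroup.coe_inv, mul_smul, inv_smul_smul,
            mul_smul, show (s : Γ) • b = b from hb _ hs]
        · exact congrArg Subtype.val (smul_zero o)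
        · intro x y hx hy ex ey
          have : (⟨x + y, hA ▸ add_mem hx hy⟩ : A) = ⟨x, hA ▸ hx⟩ + ⟨y, hA ▸ hy⟩ := rfl
          rw [this, smul_add, AddSubgroup.coe_add, ex, ey]
        · intro x hx ex
          have : (⟨-x, hA ▸ neg_mem hx⟩ : A) = -⟨x, hA ▸ hx⟩ := rfl
          rw [this, smul_neg, AddSubgroup.coe_neg, ex]
      exact Subtype.ext (hall av (hA ▸ hav))
    have hcard : Nat.card ρ.range + Nat.card A < n := by
      refine lt_of_lt_of_le ?_ hn
      refine Nat.add_lt_add_of_lt_of_le ?_ (Nat.card_le_card_of_injective _ Subtype.coe_injective)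
      calc Nat.card ρ.range ≤ Nat.card N :=
            Nat.card_le_card_of_surjective _ ρ.rangeRestrict_surjective
        _ < Nat.card Γ := by
            rw [← Subgroup.card_top (G := Γ)]
            exact lt_of_le_of_ne (Subgroup.card_le_of_le le_top)
              (fun e => hNtop (Subgroup.eq_top_of_card_eq N (by rw [e, Subgroup.card_top])))
    let φ : X →* ρ.range := ρ.rangeRestrict.comp (Subgroup.inclusion (hX.trans hSN))
    have hφ : ∀ (x : X) (a : A), ((φ x • a : A) : V) = (x : Γ) • (a : V) := fun _ _ => rfl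
    have hker : φ.ker = (fixer Γ A).subgroupOf X := by
      ext x
      rw [MonoidHom.mem_ker, mem_subgroupOf, mem_fixer]
      refine ⟨fun h a ha => ?_, fun h => FaithfulSMul.eq_of_smul_eq_smul (α := A) fun a => ?_⟩
      · have := hφ x ⟨a, ha⟩
        rw [h, one_smul] at this
        exact this.symm
      · exact Subtype.ext (by rw [hφ, one_smul]; exact h a a.2)
    have hFF := IH _ hcard ρ.range A le_rfl (fun a => Subtype.ext (two a)) hO' hs3' φ.range
      (by
        rintro _ ⟨x, rfl⟩ _ ⟨y, rfl⟩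
        exact FaithfulSMul.eq_of_smul_eq_smul (α := A) fun a => Subtype.ext (by
          rw [mul_smul, mul_smul, hφ, hφ, hφ, hφ]; exact hcomm x x.2 y y.2 a a.2))
      (by
        rintro _ ⟨x, rfl⟩
        exact FaithfulSMul.eq_of_smul_eq_smul (α := A) fun a => Subtype.ext (by
          rw [pow_two, mul_smul, one_smul, hφ, hφ]; exact hinv x x.2 a a.2))
      (by
        intro e
        obtain ⟨x, hx, a, ha, hne⟩ := hmove
        have h1 : φ ⟨x, hx⟩ = 1 := by
          rw [← Subgroup.mem_bot, ← e]; exact ⟨_, rfl⟩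
        have := hφ ⟨x, hx⟩ ⟨a, ha⟩
        rw [h1, one_smul] at this
        exact hne this.symm)
    have hc1 : Nat.card φ.range = (fixer Γ A).relIndex X := by
      rw [← Subgroup.index_ker, hker]; rfl
    have hc2 : Nat.card (fix A φ.range) = Nat.card (A ⊓ fix V X : AddSubgroup V) :=
      Nat.card_congr
        { toFun := fun a => ⟨(a : A), (a : A).2, fun x hx => by
            have := a.2 (φ ⟨x, hx⟩) ⟨_, rfl⟩
            rw [← hφ ⟨x, hx⟩, this]⟩
          invFun := fun v => ⟨⟨v, v.2.1⟩, by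
            rintro _ ⟨x, rfl⟩
            exact Subtype.ext ((hφ x _).trans (v.2.2 x x.2))⟩
          left_inv := fun _ => rfl
          right_inv := fun _ => rfl }
    rwa [hc1, hc2] at hFF
  -- some translate of the piece is moved
  have hmoved : ∃ g : Γ, ∃ E, Mem V E ∧ E ≤ (S : Subgroup Γ) ∧
      ∃ x ∈ E, ∃ a ∈ A, x • g • a ≠ g • a := by
    by_contra hno
    push Not at hno
    obtain ⟨U, hU⟩ : ∃ U, U = orb (⊤ : Subgroup Γ) A := ⟨_, rfl⟩
    have hUinv : ∀ g : Γ, ∀ u ∈ U, g • u ∈ U := fun g u hu =>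
      hU ▸ smul_mem_orb (mem_top g) (hU ▸ hu)
    obtain ⟨K, hK⟩ : ∃ K, K = fixer Γ U := ⟨_, rfl⟩
    have hKn : K.Normal := ⟨fun k hk g => by
      rw [hK, mem_fixer] at hk ⊢
      intro u hu
      rw [mul_smul, mul_smul, hk _ (hUinv g⁻¹ u hu), smul_inv_smul]⟩
    have hEK : E₁ ≤ K := fun x hx => hK ▸ hU ▸ mem_fixer_orb
      (fun g _ a ha => hno g E₁ hE₁ hS x hx a ha)
    by_cases hKtop : K = ⊤
    · -- pass to the quotient
      have hUne : U ≠ ⊥ := fun e => ha₀' (by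
        have := hU ▸ mem_orb (P := (⊤ : Subgroup Γ)) ha₀
        rwa [e, AddSubgroup.mem_bot] at this)
      letI : DistribMulAction Γ (V ⧸ U) :=
        { smul := fun g => QuotientAddGroup.map U U (DistribSMul.toAddMonoidHom V g) (hUinv g)
          one_smul := fun z => by
            obtain ⟨v, rfl⟩ := QuotientAddGroup.mk_surjective z
            exact congrArg QuotientAddGroup.mk (one_smul Γ v)
          mul_smul := fun g h z => by
            obtain ⟨v, rfl⟩ := QuotientAddGroup.mk_surjective z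
            exact congrArg QuotientAddGroup.mk (mul_smul g h v)
          smul_zero := fun g => map_zero _
          smul_add := fun g => map_add _ }
      have hmk : ∀ (g : Γ) (v : V),
          g • (QuotientAddGroup.mk v : V ⧸ U) = QuotientAddGroup.mk (g • v) := fun _ _ => rfl
      haveI : FaithfulSMul Γ (V ⧸ U) := by
        let M : Subgroup Γ :=
          { carrier := {g | ∀ z : V ⧸ U, g • z = z}
            one_mem' := fun z => one_smul _ z
            mul_mem' := fun ha hb z => by rw [mul_smul, hb, ha]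
            inv_mem' := fun {a} ha z => by rw [inv_smul_eq_iff, ha] }
        have hMn : M.Normal := ⟨fun k hk g z => by rw [mul_smul, mul_smul, hk, smul_inv_smul]⟩
        have hM : M = ⊥ := by
          refine eq_bot_iff.2 (hO ▸ Core.le_pCore fun g => ⟨1, Subtype.ext ?_⟩)
          refine FaithfulSMul.eq_of_smul_eq_smul (α := V) fun v => ?_
          have hv : (g : Γ) • v - v ∈ U :=
            QuotientAddGroup.eq_iff_sub_mem.1 ((hmk g v).symm.trans (g.2 _))
          have hfix : (g : Γ) • ((g : Γ) • v - v) = (g : Γ) • v - v :=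
            mem_fixer.1 (hK ▸ hKtop ▸ mem_top (g : Γ)) _ hv
          show ((g : Γ) ^ 2 ^ 1) • v = (1 : Γ) • v
          rw [pow_one, pow_smul_of_fixed hfix, two_nsmul, two, add_zero, one_smul]
        refine ⟨fun {g h} e => ?_⟩
        have : g⁻¹ * h ∈ M := fun z => by rw [mul_smul, ← e z, inv_smul_smul]
        rw [hM, Subgroup.mem_bot] at this
        exact inv_mul_eq_one.1 this
      have hVU : Nat.card (V ⧸ U) * Nat.card U = Nat.card V :=
        (AddSubgroup.card_eq_card_quotient_mul_card_addSubgroup U).symm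
      have hU2 : 2 ≤ Nat.card U := Nat.succ_le_of_lt (Nat.lt_of_le_of_ne Nat.card_pos
        (fun e => hUne (AddSubgroup.eq_bot_of_card_eq U e.symm)))
      have hlt' : Nat.card Γ + Nat.card (V ⧸ U) < n := by
        refine lt_of_lt_of_le (Nat.add_lt_add_left ?_ _) hn
        rw [← hVU]
        exact lt_mul_of_one_lt_right Nat.card_pos hU2
      have h := IH _ hlt' Γ (V ⧸ U) le_rfl (fun z => by
        obtain ⟨v, rfl⟩ := QuotientAddGroup.mk_surjective z
        rw [← QuotientAddGroup.mk_add, two]; rfl) hO s3 E₁ hE₁.comm hE₁.sq hE₁.ne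
      refine absurd hE₁.off (not_le.2 ?_)
      have h1 := card_map_mul (QuotientAddGroup.mk' U) (fix V E₁)
      rw [QuotientAddGroup.ker_mk'] at h1
      have h2 : (fix V E₁).map (QuotientAddGroup.mk' U) ≤ fix (V ⧸ U) E₁ := by
        rintro _ ⟨v, hv, rfl⟩ g hg
        exact (hmk g v).trans (congrArg QuotientAddGroup.mk (hv g hg))
      rw [← hVU, ← h1]
      calc Nat.card E₁ * (Nat.card (fix V E₁ ⊓ U : AddSubgroup V) *
            Nat.card ((fix V E₁).map (QuotientAddGroup.mk' U)))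
          ≤ Nat.card E₁ * (Nat.card U * Nat.card (fix (V ⧸ U) E₁)) :=
            Nat.mul_le_mul_left _ (Nat.mul_le_mul (AddSubgroup.card_le_of_le inf_le_right)
              (AddSubgroup.card_le_of_le h2))
        _ = Nat.card E₁ * Nat.card (fix (V ⧸ U) E₁) * Nat.card U := by ring
        _ < _ := Nat.mul_lt_mul_of_pos_right h Nat.card_pos
    · -- pass to the normal subgroup
      have hlt' : Nat.card K + Nat.card V < n := by
        refine lt_of_lt_of_le (Nat.add_lt_add_right ?_ _) hn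
        exact lt_of_le_of_ne (Nat.card_le_card_of_injective _ Subtype.coe_injective)
          (fun e => hKtop (Subgroup.eq_top_of_card_eq K e))
      haveI : FaithfulSMul K V := ⟨fun {g h} e =>
        Subtype.ext (FaithfulSMul.eq_of_smul_eq_smul (α := V) e)⟩
      have hOK : pCore 2 K = ⊥ := by
        have h1 := Core.map_pCore_normal (p := 2) K
        rw [hO, bot_inf_eq, map_eq_bot_iff_of_injective _ K.subtype_injective] at h1
        exact h1
      have hfix : fix V (E₁.subgroupOf K) = fix V E₁ := by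
        ext v
        exact ⟨fun h x hx => h ⟨x, hEK hx⟩ hx, fun h x hx => h x hx⟩
      have h := IH _ hlt' K V le_rfl two hOK (fun h => s3 (QdFree.involves_of_subgroup h))
        (E₁.subgroupOf K) (fun a ha b hb => Subtype.ext (hE₁.comm a ha b hb).eq)
        (fun a ha => Subtype.ext (hE₁.sq a ha))
        (fun e => hE₁.ne (by
          rw [subgroupOf_eq_bot, disjoint_iff, inf_eq_left.2 hEK] at e; exact e))
      rw [hfix, Nat.card_congr (subgroupOfEquivOfLe hEK).toEquiv] at h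
      exact h.not_ge hE₁.off
  -- the critical subgroups
  let Good : Subgroup Γ → Prop := fun P =>
    Syl P ((S : Subgroup Γ) ⊓ P) ∧ (∀ R, (S : Subgroup Γ) ⊓ P ≤ R → R < P → R ≤ stab Γ A) ∧
      ∃ E, Mem V E ∧ E ≤ (S : Subgroup Γ) ⊓ P ∧
        ∃ p ∈ P, ∃ x ∈ E, ∃ a ∈ A, x • p • a ≠ p • a
  have hTM : (S : Subgroup Γ) ≤ stab Γ A := hSN.trans hNA
  have hmemA : ∀ E, Mem V E → E ≤ (S : Subgroup Γ) → ∀ x ∈ E, ∀ a ∈ A, x • a = a :=
    fun E hE hES x hx a ha => hJA x (hJ ▸ le_memJoin hE trivial hES hx) a ha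
  have hex : ∃ P, Good P := by
    obtain ⟨g, E, hE, hES, hx⟩ := hmoved
    obtain ⟨P, ⟨hSP, E', hE', hE'S, p, hp, hmv⟩, hmin⟩ := (Set.toFinite {P : Subgroup Γ |
      (S : Subgroup Γ) ≤ P ∧ ∃ E, Mem V E ∧ E ≤ (S : Subgroup Γ) ∧ ∃ p ∈ P, ∃ x ∈ E, ∃ a ∈ A,
        x • p • a ≠ p • a}).exists_minimalFor id _ ⟨⊤, le_top, E, hE, hES, g, mem_top g, hx⟩
    have hsyl : Syl P ((S : Subgroup Γ) ⊓ P) := by
      rw [inf_eq_left.2 hSP]
      exact (syl_top S).mono S.2 hSP le_top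
    refine ⟨P, hsyl, fun R hR hRP => ?_, E', hE', le_inf hE'S (hE'S.trans hSP), p, hp, hmv⟩
    rw [inf_eq_left.2 hSP] at hR
    have hnomove : ∀ E, Mem V E → E ≤ (S : Subgroup Γ) → E ≤ fixer Γ (orb R A) ⊓ R := by
      intro E hE hES x hx
      refine ⟨mem_fixer_orb fun r hr a ha => ?_, hR (hES hx)⟩
      by_contra hne
      exact hRP.not_ge (hmin ⟨hR, E, hE, hES, r, hr, x, hx, a, ha, hne⟩ hRP.le)
    intro r hr
    have hKR : fixer Γ (orb R A) ⊓ R ≤ R := inf_le_right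
    have hsylK := ((syl_top S).mono S.2 hR le_top).inter S.2 hKR conj_fixer_orb
    obtain ⟨k, hk, hkr⟩ := frattini hsylK inf_le_right (S.2.to_le inf_le_left) conj_fixer_orb hr
    have hJK : memJoin V (fun _ => True) ((S : Subgroup Γ) ⊓ (fixer Γ (orb R A) ⊓ R)) = J := by
      rw [hJ]
      refine le_antisymm ?_ ?_
      · refine (closure_le _).2 ?_
        rintro x ⟨E, hE, -, hle, hx⟩
        exact le_memJoin hE trivial (hle.trans inf_le_left) hx
      · refine (closure_le _).2 ?_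
        rintro x ⟨E, hE, -, hle, hx⟩
        exact le_memJoin hE trivial (le_inf hle (hnomove E hE hle)) hx
    have hkrN : k * r ∈ N := hN ▸ mem_normalizer_of_conj fun x hx => by
      rw [← hJK] at hx ⊢
      exact conj_memJoin (fun _ _ => trivial) hkr hx
    have hkA : k ∈ stab Γ A := fun a ha => by rwa [mem_fixer.1 hk.1 a (mem_orb ha)]
    have := mul_mem (inv_mem hkA) (hNA hkrN)
    rwa [inv_mul_cancel_left] at this
  obtain ⟨P, ⟨hsyl, hG1, E, hE, hET, hmv⟩, hPmin⟩ :=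
    (Set.toFinite {P | Good P}).exists_minimalFor id _ hex
  obtain ⟨T, hT⟩ : ∃ T, T = (S : Subgroup Γ) ⊓ P := ⟨_, rfl⟩
  rw [← hT] at hsyl hG1 hET
  have hTS : T ≤ (S : Subgroup Γ) := hT ▸ inf_le_left
  have hTP : T ≤ P := hT ▸ inf_le_right
  have hT2 : IsPGroup 2 T := S.2.to_le hTS
  let Q : Subgroup Γ → Prop := fun E' => ∃ p ∈ P, ∃ x ∈ E', ∃ a ∈ A, x • p • a ≠ p • a
  have hQconj : ∀ q ∈ P, ∀ E', Q E' → Q (cg q E') := by
    rintro q hq E' ⟨p, hp, x, hx, a, ha, hne⟩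
    refine ⟨q * p, mul_mem hq hp, q * x * q⁻¹, ⟨x, hx, rfl⟩, a, ha, fun e => hne ?_⟩
    rw [mul_smul, mul_smul, mul_smul, inv_smul_smul] at e
    exact MulAction.injective q e
  have hEQ : Q E := hmv
  -- the normaliser of a subgroup generated by moving members
  have hnorm : ∀ X ≤ T, (∃ E', Mem V E' ∧ Q E' ∧ E' ≤ X) →
      ¬ P ≤ normalizer ((memJoin V Q X : Subgroup Γ) : Set Γ) := by
    rintro X hX ⟨E', hE', hQE', hle⟩ hP
    obtain ⟨p, hp, x, hx, a, ha, hne⟩ := id hQE'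
    refine hne ?_
    have h1 : p⁻¹ * x * p ∈ memJoin V Q X := by
      have := (mem_normalizer_iff.1 (hP (inv_mem hp)) x).1 (le_memJoin hE' hQE' hle hx)
      rwa [inv_inv] at this
    have h2 : p⁻¹ * x * p ∈ J := by
      have h3 : memJoin V Q X ≤ J := by
        refine (closure_le _).2 ?_
        rintro y ⟨E'', hE'', -, hle'', hy⟩
        exact hJ ▸ le_memJoin hE'' trivial (hle''.trans (hX.trans hTS)) hy
      exact h3 h1
    calc x • p • a = p • ((p⁻¹ * x * p) • a) := by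
          rw [← mul_smul, ← mul_smul]; congr 1; group
      _ = p • a := by rw [hJA _ h2 a ha]
  -- proper subgroups with a moving member stabilise the piece
  have claim : ∀ R < P, (∃ E', Mem V E' ∧ Q E' ∧ E' ≤ T ∧ E' ≤ R) → R ≤ stab Γ A := by
    by_contra hbad
    push Not at hbad
    obtain ⟨R₁, hR₁, hR₁max⟩ := (Set.toFinite {R : Subgroup Γ | R < P ∧
        (∃ E', Mem V E' ∧ Q E' ∧ E' ≤ T ∧ E' ≤ R) ∧ ¬ R ≤ stab Γ A}).exists_maximalFor
      (fun R => Nat.card (R ⊓ T : Subgroup Γ)) _ hbad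
    obtain ⟨R, ⟨⟨hRP, ⟨E', hE', hQE', hE'T, hE'R⟩, hRA⟩, hRcard⟩, hRmin⟩ :=
      (Set.toFinite {R : Subgroup Γ | (R < P ∧
        (∃ E', Mem V E' ∧ Q E' ∧ E' ≤ T ∧ E' ≤ R) ∧ ¬ R ≤ stab Γ A) ∧
        Nat.card (R₁ ⊓ T : Subgroup Γ) ≤ Nat.card (R ⊓ T : Subgroup Γ)}).exists_minimalFor id _
        ⟨R₁, hR₁, le_rfl⟩
    have hbig : ∀ R', R' < P → (∃ E', Mem V E' ∧ Q E' ∧ E' ≤ T ∧ E' ≤ R') →
        Nat.card (R ⊓ T : Subgroup Γ) < Nat.card (R' ⊓ T : Subgroup Γ) → R' ≤ stab Γ A := by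
      intro R' h1 h2 h3
      by_contra h4
      have := hR₁max ⟨h1, h2, h4⟩ (hRcard.trans h3.le)
      exact absurd (h3.trans_le this) (not_lt.2 hRcard)
    obtain ⟨T₀, hT₀⟩ : ∃ T₀, T₀ = R ⊓ T := ⟨_, rfl⟩
    rw [← hT₀] at hbig
    have hT₀T : T₀ ≤ T := hT₀ ▸ inf_le_right
    have hT₀R : T₀ ≤ R := hT₀ ▸ inf_le_left
    have hne : ¬ T ≤ T₀ := fun h => hRA (hG1 R (h.trans hT₀R) hRP)
    have hE'T₀ : E' ≤ T₀ := hT₀ ▸ le_inf hE'R hE'T
    obtain ⟨J', hJ'⟩ : ∃ J', J' = memJoin V Q T₀ := ⟨_, rfl⟩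
    -- normalisers of `T₀` stabilise the piece
    have hNT₀ : ∀ y ∈ P, (∀ t ∈ T₀, y * t * y⁻¹ ∈ T₀) → y ∈ stab Γ A := by
      intro y hy hyT
      have hconj : ∀ z ∈ P, (∀ t ∈ T₀, z * t * z⁻¹ ∈ T₀) →
          z ∈ P ⊓ normalizer (J' : Set Γ) := fun z hz hzT => ⟨hz, mem_normalizer_of_conj
            fun x hx => hJ' ▸ conj_memJoin (hQconj z hz) hzT (hJ' ▸ hx)⟩
      have hlt : P ⊓ normalizer (J' : Set Γ) < P := lt_of_le_of_ne inf_le_left fun e =>
        hnorm T₀ hT₀T ⟨E', hE', hQE', hE'T₀⟩ (hJ' ▸ inf_eq_left.1 e)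
      obtain ⟨w, hwT, hwT₀, hw⟩ := exists_normalizing hT2 hT₀T hne
      have hsub : T₀ < (P ⊓ normalizer (J' : Set Γ)) ⊓ T := by
        refine lt_of_le_of_ne (fun t ht => ⟨hconj t (hTP (hT₀T ht))
          (fun s hs => mul_mem (mul_mem ht hs) (inv_mem ht)), hT₀T ht⟩) fun e => hwT₀ ?_
        rw [e]
        exact ⟨hconj w (hTP hwT) hw, hwT⟩
      refine hbig _ hlt ⟨E', hE', hQE', hE'T, fun x hx => ?_⟩ ?_ (hconj y hy hyT)
      · exact hconj x (hTP (hE'T hx)) fun s hs =>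
          mul_mem (mul_mem (hE'T₀ hx) hs) (inv_mem (hE'T₀ hx))
      · exact card_lt_of_lt hsub
    -- `T₀` is a Sylow subgroup of `R`
    have hmax : ∀ Y ≤ R, IsPGroup 2 Y → T₀ ≤ Y → Y ≤ T₀ := by
      intro Y hY hY2 hT₀Y
      by_contra hne'
      obtain ⟨y, hy, hyT₀, hyn⟩ := exists_normalizing hY2 hT₀Y hne'
      obtain ⟨Y', hY'⟩ : ∃ Y', Y' = T₀ ⊔ zpowers y := ⟨_, rfl⟩
      have hY'Y : Y' ≤ Y := hY' ▸ sup_le hT₀Y (zpowers_le.2 hy)
      have hsylM : Syl (P ⊓ stab Γ A) T :=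
        hsyl.mono hT2 (le_inf hTP (hTS.trans hTM)) inf_le_left
      have hY'M : Y' ≤ P ⊓ stab Γ A := hY' ▸ sup_le
        (le_inf (hT₀T.trans hTP) (hT₀T.trans (hTS.trans hTM)))
        (zpowers_le.2 ⟨hRP.le (hY hy), hNT₀ y (hRP.le (hY hy)) hyn⟩)
      obtain ⟨m, hm, hmY⟩ := hsylM Y' hY'M (hY2.to_le hY'Y)
      have hlt : cg m R < P := by
        refine lt_of_le_of_ne ?_ fun e => hRP.ne ?_
        · rintro _ ⟨r, hr, rfl⟩
          exact mul_mem (mul_mem hm.1 (hRP.le hr)) (inv_mem hm.1)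
        · refine Subgroup.eq_of_le_of_card_ge hRP.le ?_
          rw [← card_cg m R, e]
      have hle : cg m R ≤ stab Γ A := by
        refine hbig _ hlt ⟨cg m E', hE'.conj m, hQconj m hm.1 E' hQE', ?_, map_mono hE'R⟩ ?_
        · rintro _ ⟨x, hx, rfl⟩
          exact hmY x (hY' ▸ mem_sup_left (hE'T₀ hx))
        · calc Nat.card T₀ < Nat.card Y' := by
                refine card_lt_of_lt ?_
                refine lt_of_le_of_ne (hY' ▸ le_sup_left) fun e => hyT₀ ?_
                rw [e, hY']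
                exact mem_sup_right (mem_zpowers y)
            _ ≤ _ := by
                refine Nat.card_le_card_of_injective
                  (fun q : Y' => (⟨m * q * m⁻¹, ⟨q, hY (hY'Y q.2), rfl⟩, hmY q q.2⟩ :
                    (cg m R ⊓ T : Subgroup Γ))) ?_
                intro a b e
                exact Subtype.ext (mul_left_cancel (mul_right_cancel (congrArg Subtype.val e)))
      refine hRA fun r hr => ?_
      have h1 := mul_mem (mul_mem ((stab Γ A).inv_mem hm.2) (hle ⟨r, hr, rfl⟩)) hm.2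
      simpa [mul_assoc] using h1
    have hsylR : Syl R T₀ := syl_of_max hT₀R (hT2.to_le hT₀T) hmax
    have hT₀eq : (S : Subgroup Γ) ⊓ R = T₀ := by
      rw [hT₀, hT, ← inf_assoc, inf_comm R, inf_assoc, inf_eq_left.2 hRP.le]
    have hover : ∀ R', T₀ ≤ R' → R' < R → R' ≤ stab Γ A := by
      intro R' h1 h2
      by_contra h3
      refine h2.not_ge (hRmin ⟨⟨h2.trans hRP, ⟨E', hE', hQE', hE'T, hE'T₀.trans h1⟩, h3⟩, ?_⟩
        h2.le)
      exact hRcard.trans (Subgroup.card_le_of_le (le_inf (hT₀ ▸ h1) inf_le_right))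
    by_cases hmvR : ∃ E'', Mem V E'' ∧ E'' ≤ T₀ ∧
        ∃ r ∈ R, ∃ x ∈ E'', ∃ a ∈ A, x • r • a ≠ r • a
    · refine hRP.not_ge (hPmin ⟨hT₀eq.symm ▸ hsylR, fun R' h1 h2 => hover R' (hT₀eq ▸ h1) h2, ?_⟩
        hRP.le)
      obtain ⟨E'', h1, h2, h3⟩ := hmvR
      exact ⟨E'', h1, hT₀eq.symm ▸ h2, h3⟩
    · push Not at hmvR
      refine hRA fun r hr => ?_
      have hsylK := hsylR.inter (hT2.to_le hT₀T) (inf_le_right : fixer Γ (orb R A) ⊓ R ≤ R)
        conj_fixer_orb
      obtain ⟨k, hk, hkr⟩ := frattini hsylK inf_le_right ((hT2.to_le hT₀T).to_le inf_le_left)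
        conj_fixer_orb hr
      have hkrP : k * r ∈ P := mul_mem (hRP.le hk.2) (hRP.le hr)
      have hJK : memJoin V Q (T₀ ⊓ (fixer Γ (orb R A) ⊓ R)) = J' := by
        rw [hJ']
        refine le_antisymm ?_ ?_
        · refine (closure_le _).2 ?_
          rintro x ⟨E'', hE'', hQ'', hle, hx⟩
          exact le_memJoin hE'' hQ'' (hle.trans inf_le_left) hx
        · refine (closure_le _).2 ?_
          rintro x ⟨E'', hE'', hQ'', hle, hx⟩
          exact le_memJoin hE'' hQ'' (le_inf hle fun y hy =>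
            mem_inf.2 ⟨mem_fixer_orb fun r' hr' a ha => hmvR E'' hE'' hle r' hr' y hy a ha,
              hT₀R (hle hy)⟩) hx
      have hkrN : k * r ∈ normalizer (J' : Set Γ) := mem_normalizer_of_conj fun x hx => by
        rw [← hJK] at hx ⊢
        exact conj_memJoin (hQconj _ hkrP) hkr hx
      have hlt : P ⊓ normalizer (J' : Set Γ) < P := lt_of_le_of_ne inf_le_left fun e =>
        hnorm T₀ hT₀T ⟨E', hE', hQE', hE'T₀⟩ (hJ' ▸ inf_eq_left.1 e)
      obtain ⟨w, hwT, hwT₀, hw⟩ := exists_normalizing hT2 hT₀T hne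
      have hconj : ∀ z ∈ P, (∀ t ∈ T₀, z * t * z⁻¹ ∈ T₀) →
          z ∈ P ⊓ normalizer (J' : Set Γ) := fun z hz hzT => ⟨hz, mem_normalizer_of_conj
            fun x hx => hJ' ▸ conj_memJoin (hQconj z hz) hzT (hJ' ▸ hx)⟩
      have hle : P ⊓ normalizer (J' : Set Γ) ≤ stab Γ A := by
        refine hbig _ hlt ⟨E', hE', hQE', hE'T, fun x hx => hconj x (hTP (hE'T hx)) fun s hs =>
          mul_mem (mul_mem (hE'T₀ hx) hs) (inv_mem (hE'T₀ hx))⟩ ?_
        refine card_lt_of_lt ?_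
        refine lt_of_le_of_ne (fun t ht => ⟨hconj t (hTP (hT₀T ht))
          (fun s hs => mul_mem (mul_mem ht hs) (inv_mem ht)), hT₀T ht⟩) fun e => hwT₀ ?_
        rw [e]
        exact ⟨hconj w (hTP hwT) hw, hwT⟩
      have hkA : k ∈ stab Γ A := fun a ha => by rwa [mem_fixer.1 hk.1 a (mem_orb ha)]
      have := mul_mem (inv_mem hkA) (hle ⟨hkrP, hkrN⟩)
      rwa [inv_mul_cancel_left] at this
  -- the configuration
  refine Conf.false (P := P) (T := T) (E := E) (A := A)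
    { two := two, s3 := s3, off := hE.off, small := hE.small', quad := hE.quad two, ET := hET,
      TP := hTP, twoT := hT2, sylow := hsyl, TA := hTS.trans hTM,
      fixA := hmemA E hE (hET.trans hTS), moved := hmv,
      gen := ?_, ind := fun X hX => hind X (hX.trans hTS) }
  intro g hg hgM H hEH hgH
  by_cases hP : E ⊔ cg g E = P
  · rw [← hP]
    exact sup_le hEH (by rintro _ ⟨x, hx, rfl⟩; exact hgH x hx)
  exfalso
  have hRP : E ⊔ cg g E < P := lt_of_le_of_ne (sup_le (hET.trans hTP)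
    (by rintro _ ⟨x, hx, rfl⟩; exact mul_mem (mul_mem hg (hTP (hET hx))) (inv_mem hg))) hP
  have hM : E ⊔ cg g E ≤ stab Γ A := claim _ hRP ⟨E, hE, hEQ, hET, le_sup_left⟩
  have hgP : cg g E ≤ P := le_sup_right.trans hRP.le
  have hMP : P ⊓ stab Γ A < P := lt_of_le_of_ne inf_le_left fun e => hgM (inf_eq_left.1 e hg)
  have hTM' : T ≤ P ⊓ stab Γ A := le_inf hTP (hTS.trans hTM)
  have hsylM : Syl (P ⊓ stab Γ A) T := hsyl.mono hT2 hTM' inf_le_left
  obtain ⟨m, hm, hmE⟩ := hsylM (cg g E) (le_inf hgP (le_sup_right.trans hM))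
    ((hE.isPGroup).map _)
  obtain ⟨h, hh⟩ : ∃ h, h = m * g := ⟨_, rfl⟩
  have hhP : h ∈ P := hh ▸ mul_mem hm.1 hg
  have hhE : cg h E ≤ T := by
    rintro _ ⟨x, hx, rfl⟩
    have := hmE _ ⟨x, hx, rfl⟩
    show h * x * h⁻¹ ∈ T
    rw [hh]
    convert this using 1
    show (m * g) * x * (m * g)⁻¹ = m * (g * x * g⁻¹) * m⁻¹
    group
  have hle : cg h⁻¹ (P ⊓ stab Γ A) ≤ stab Γ A := by
    refine claim _ (lt_of_le_of_ne ?_ fun e => hMP.ne (Subgroup.eq_of_le_of_card_ge inf_le_left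
      (by rw [← card_cg h⁻¹ (P ⊓ stab Γ A), e]))) ⟨E, hE, hEQ, hET, fun x hx => ?_⟩
    · rintro _ ⟨y, hy, rfl⟩
      exact mul_mem (mul_mem (inv_mem hhP) hy.1) (inv_mem (inv_mem hhP))
    · refine ⟨h * x * h⁻¹, hTM' (hhE ⟨x, hx, rfl⟩), ?_⟩
      show h⁻¹ * (h * x * h⁻¹) * h⁻¹⁻¹ = x
      group
  obtain ⟨k, hk, hkT⟩ := hsylM (cg h⁻¹ T)
    (fun x hx => ⟨by
      obtain ⟨t, ht, rfl⟩ := hx
      exact P.mul_mem (P.mul_mem (P.inv_mem hhP) (hTP ht)) (P.inv_mem (P.inv_mem hhP)),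
      hle (map_mono hTM' hx)⟩) (hT2.map _)
  obtain ⟨u, hu⟩ : ∃ u, u = k * h⁻¹ := ⟨_, rfl⟩
  have huP : u ∈ P := hu ▸ mul_mem hk.1 (P.inv_mem hhP)
  have huN : u ∈ P ⊓ normalizer ((memJoin V Q T : Subgroup Γ) : Set Γ) := by
    refine mem_inf.2 ⟨huP, mem_normalizer_of_conj fun x hx => conj_memJoin (hQconj u huP) (fun t ht => ?_) hx⟩
    have := hkT _ ⟨t, ht, rfl⟩
    rw [hu]
    convert this using 1
    show k * h⁻¹ * t * (k * h⁻¹)⁻¹ = k * (h⁻¹ * t * h⁻¹⁻¹) * k⁻¹
    group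
  have huA : u ∈ stab Γ A := by
    refine hG1 _ (fun t ht => mem_inf.2 ⟨hTP ht, mem_normalizer_of_conj fun x hx =>
      conj_memJoin (hQconj t (hTP ht)) (fun s hs => mul_mem (mul_mem ht hs) (inv_mem ht)) hx⟩)
      (lt_of_le_of_ne inf_le_left fun e => hnorm T le_rfl ⟨E, hE, hEQ, hET⟩ (inf_eq_left.1 e)) huN
  refine hgM ?_
  have h1 := mul_mem ((stab Γ A).inv_mem hm.2) (mul_mem ((stab Γ A).inv_mem huA) hk.2)
  rwa [hu, hh, show m⁻¹ * ((k * (m * g)⁻¹)⁻¹ * k) = g by group] at h1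

end step

/-- A finite group with trivial `2`-core and without sections `Sym(3)`, acting faithfully on an
elementary abelian `2`-group, has no offender. -/
theorem no_offender {Γ : Type u} [Group Γ] [Finite Γ] {V : Type u} [AddCommGroup V] [Finite V]
    [DistribMulAction Γ V] [FaithfulSMul Γ V] (two : ∀ v : V, v + v = 0) (hO : pCore 2 Γ = ⊥)
    (s3 : ¬ Cfsg.Involves (Equiv.Perm (Fin 3)) Γ) {E : Subgroup Γ}
    (hab : ∀ a ∈ E, ∀ b ∈ E, Commute a b) (hsq : ∀ a ∈ E, a ^ 2 = 1) (hne : E ≠ ⊥) :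
    Nat.card E * Nat.card (fix V E) < Nat.card V := by
  have h : ∀ n, Holds.{u} n := fun n => Nat.strong_induction_on n step
  exact h _ Γ V le_rfl two hO s3 E hab hsq hne

end Cfsg.Agent.FFLemma
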